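import Groth.Agent.VarBase.NakaiCrit
import Groth.Agent.VarBase.Decomp
import Groth.Agent.VarBase.Leray
import Groth.Agent.IntNum47.NumInv
import Groth.Agent.SurfInt.SectionDeg
import Groth.Agent.SurfInt.Curve

/-!
# Iterated intersection symbols: linearity, dévissage, monotonicity along monomorphisms
-/

set_option linter.style.haveILetI false
set_option linter.unusedSectionVars false
set_option backward.isDefEq.respectTransparency false
set_option backward.isDefEq.respectTransparency.types false

universe u

open CategoryTheory CategoryTheory.Limits AlgebraicGeometry TopologicalSpace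
open Groth.Agent.HilbPoly (iterD DimLT)

attribute [local instance] HasDerivedCategory.standard

noncomputable section

namespace Groth.Agent.Nef45

open Groth.Agent

variable (k : Type u) [Field k] {X : Scheme.{u}} [X.Over (Spec (CommRingCat.of k))]
  [IsProper (X ↘ Spec (CommRingCat.of k))]

/-- The intersection symbol of a list of modules against a module. -/
abbrev I (l : List X.Modules) (F : X.Modules) : ℤ := iterD l (Curv2.euler k X) F

/-- All members are invertible. -/
abbrev AllInv {X : Scheme.{u}} (l : List X.Modules) : Prop := ∀ A ∈ l, PicF.IsInvertible A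

omit [X.Over (Spec (CommRingCat.of k))] [IsProper (X ↘ Spec (CommRingCat.of k))] in
theorem AllInv.cons {A : X.Modules} {l : List X.Modules} (hA : PicF.IsInvertible A) (hl : AllInv l) :
    AllInv (A :: l) := by
  intro B hB
  rcases List.mem_cons.1 hB with rfl | hB
  exacts [hA, hl B hB]

omit [X.Over (Spec (CommRingCat.of k))] [IsProper (X ↘ Spec (CommRingCat.of k))] in
theorem AllInv.append {l l' : List X.Modules} (hl : AllInv l) (hl' : AllInv l') : AllInv (l ++ l') :=
  fun B hB => (List.mem_append.1 hB).elim (hl B) (hl' B)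

omit [X.Over (Spec (CommRingCat.of k))] [IsProper (X ↘ Spec (CommRingCat.of k))] in
theorem AllInv.replicate {A : X.Modules} (hA : PicF.IsInvertible A) (n : ℕ) : AllInv (List.replicate n A) :=
  fun _ hB => (List.eq_of_mem_replicate hB) ▸ hA

theorem I_additive {l : List X.Modules} (hl : AllInv l) : HilbPoly.Additive (I k l) :=
  haveI := CurveCohLib.isNoetherian_of_proper (k := k) (X := X)
  HilbPoly.additive_iterD (HilbPoly.additive_euler k) hl

theorem I_congr_module {F G : X.Modules} (e : F ≅ G) (l : List X.Modules) : I k l F = I k l G :=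
  IntNum47.isoInv_iterD (IntNum47.isoInv_euler k) l e

theorem I_congr_head {A B : X.Modules} (e : A ≅ B) (l : List X.Modules) (F : X.Modules) :
    I k (A :: l) F = I k (B :: l) F :=
  IntNum47.iterD_congr_head (IntNum47.isoInv_euler k) e l F

theorem I_perm {l l' : List X.Modules} (h : l.Perm l') (F : X.Modules) : I k l F = I k l' F :=
  IntNum47.iterD_perm (IntNum47.isoInv_euler k) h F

theorem I_congr_cl {A B : X.Modules} (e : PicF.cl A = PicF.cl B) (l : List X.Modules) (F : X.Modules) :
    I k (A :: l) F = I k (B :: l) F :=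
  I_congr_head k (H23.PicMul.cl_eq_iff.1 e).some l F

theorem I_eq_zero {l : List X.Modules} (hl : AllInv l) {F : X.Modules} (hF : Coh.IsCoh F)
    (hd : DimLT F l.length) : I k l F = 0 :=
  haveI := CurveCohLib.isNoetherian_of_proper (k := k) (X := X)
  HilbPoly.iterD_eq_zero _ (HilbPoly.additive_euler k) l rfl hl F hF hd

/-- Linearity in the first entry. -/
theorem I_tensor {A B : X.Modules} (hA : PicF.IsInvertible A) (hB : PicF.IsInvertible B)
    {l : List X.Modules} (hl : AllInv l) {F : X.Modules} (hF : Coh.IsCoh F)
    (hd : DimLT F (l.length + 2)) :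
    I k (CohB1.tensorMod A B :: l) F = I k (A :: l) F + I k (B :: l) F :=
  IntNum47.iterD_tensor_one k hA hB hF hl rfl hd

theorem I_structure (l : List X.Modules) (F : X.Modules) : I k (Coh.structureModule X :: l) F = 0 :=
  IntNum47.iterD_structure (IntNum47.isoInv_euler k) l F

theorem I_pow {A : X.Modules} (hA : PicF.IsInvertible A) {l : List X.Modules} (hl : AllInv l) {F : X.Modules}
    (hF : Coh.IsCoh F) (hd : DimLT F (l.length + 2)) :
    ∀ n : ℕ, I k (CohB1.tensorPow A n :: l) F = (n : ℤ) * I k (A :: l) F
  | 0 => by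
    rw [Nat.cast_zero, zero_mul]
    exact I_structure k l F
  | n + 1 => by
    show I k (CohB1.tensorMod (CohB1.tensorPow A n) A :: l) F = _
    rw [I_tensor k (InvX.isInvertible_tensorPow hA n) hA hl hF hd, I_pow hA hl hF hd n]
    push_cast
    ring

/-- Numerically effective: non-negative on every integral closed curve. -/
def IsNef (L : X.Modules) : Prop :=
  ∀ (Z : Scheme.{u}) (i : Z ⟶ X), IsClosedImmersion i → IsIntegral Z → topologicalKrullDim Z = 1 →
    0 ≤ I k [L] ((Coh.push i).obj (Coh.structureModule Z))

/-- Restriction to a closed subscheme. -/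
theorem I_push {Z : Scheme.{u}} [Z.Over (Spec (CommRingCat.of k))] [IsProper (Z ↘ Spec (CommRingCat.of k))]
    (i : Z ⟶ X) [IsClosedImmersion i]
    (hi : i ≫ (X ↘ Spec (CommRingCat.of k)) = Z ↘ Spec (CommRingCat.of k))
    {l : List X.Modules} (hl : AllInv l) {F : Z.Modules} (hF : Coh.IsCoh F) :
    I k l ((Coh.push i).obj F) = I k (l.map (Scheme.Modules.pullback i).obj) F :=
  IntNum47.iterD_push k i hi l hl F hF

theorem IsNef.pullback {L : X.Modules} (h : IsNef k L) (hL : PicF.IsInvertible L)
    {Z : Scheme.{u}} [Z.Over (Spec (CommRingCat.of k))] [IsProper (Z ↘ Spec (CommRingCat.of k))]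
    (i : Z ⟶ X) [IsClosedImmersion i]
    (hi : i ≫ (X ↘ Spec (CommRingCat.of k)) = Z ↘ Spec (CommRingCat.of k)) :
    IsNef k ((Scheme.Modules.pullback i).obj L) := by
  intro W j hj hW hdim
  haveI := hj
  haveI := CurveCohLib.isNoetherian_of_proper (k := k) (X := Z)
  have h1 := I_push k i hi (AllInv.replicate hL 1) (QCoh.isCoh_push_structure j)
  refine le_of_le_of_eq ?_ h1
  refine le_of_le_of_eq (h W (j ≫ i) inferInstance hW hdim) ?_
  exact I_congr_module k ((Scheme.Modules.pushforwardComp j i).app (Coh.structureModule W)).symm _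

/-- Non-negativity is tested on integral closed subschemes of top dimension. -/
theorem nonneg_of_integral {l : List X.Modules} (hl : AllInv l)
    (h : ∀ (Z : Scheme.{u}) (i : Z ⟶ X), IsClosedImmersion i → IsIntegral Z →
      topologicalKrullDim Z = (l.length : WithBot ℕ∞) → 0 ≤ I k l ((Coh.push i).obj (Coh.structureModule Z)))
    {F : X.Modules} (hF : Coh.IsCoh F) (hd : DimLT F (l.length + 1)) : 0 ≤ I k l F := by
  haveI := CurveCohLib.isNoetherian_of_proper (k := k) (X := X)
  have hA := I_additive k hl
  rw [VarBase.eq_compSum (I k l) hA.iso l.length hA.add (fun M hM hMd => I_eq_zero k hl hM hMd) hF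
    (HilbPoly.le_of_lt_succ hd)]
  refine finsum_nonneg fun ξ => ?_
  split_ifs with hξ
  · refine nsmul_nonneg ?_ _
    haveI := SurfInt.isIntegral_clIdeal ξ
    obtain ⟨e⟩ : Nonempty (ClSub.quotMod (VarBase.clIdeal ξ) ≅
        (Coh.push (VarBase.clIdeal ξ).subschemeι).obj (Coh.structureModule (VarBase.clIdeal ξ).subscheme)) := by
      have h := SurfInt.nonempty_quotMod_ker (VarBase.clIdeal ξ).subschemeι
      rwa [Scheme.IdealSheafData.ker_subschemeι] at h
    rw [I_congr_module k e]
    refine h _ _ inferInstance inferInstance ?_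
    rw [← hξ, ← VarBase.dim_range (VarBase.clIdeal ξ).subschemeι, VarBase.range_clIdeal]
  · exact le_rfl

omit [X.Over (Spec (CommRingCat.of k))] [IsProper (X ↘ Spec (CommRingCat.of k))] in
theorem lenAt_invertible [IsIntegral X] {A : X.Modules} (hA : PicF.IsInvertible A) :
    VarBase.lenAt A (genericPoint X) = 1 := by
  obtain ⟨U, hU, e, he⟩ := InvX.exists_frame hA (genericPoint X)
  exact VarBase.lenAt_generic_eq_one_of_frame he hU

include k in
/-- The cokernel of a monomorphism of invertible modules has small support. -/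
theorem dimLT_cokernel [IsIntegral X] {d : ℕ} (hd : topologicalKrullDim X ≤ (d : WithBot ℕ∞))
    {A B : X.Modules} (hA : PicF.IsInvertible A) (hB : PicF.IsInvertible B) (φ : A ⟶ B) [Mono φ] :
    DimLT (cokernel φ) d := by
  haveI := CurveCohLib.isNoetherian_of_proper (k := k) (X := X)
  obtain ⟨e, he⟩ := VarBase.exists_dim_eq (Y := X) k
  have hAc := AmpleVan.isCoh_invertible hA
  have hBc := AmpleVan.isCoh_invertible hB
  have hC := QCoh.isCoh_cokernel hAc.1 hBc φ
  have hcl : (Set.univ : Set X) = closure {genericPoint X} := (genericPoint_spec X).def.symm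
  have hed : topologicalKrullDim ↥(closure ({genericPoint X} : Set X)) = (e : WithBot ℕ∞) := by
    rw [← hcl, VanGrowth.dim_univ, he]
  have hS : (ShortComplex.mk φ (cokernel.π φ) (cokernel.condition φ)).ShortExact :=
    .mk' (ShortComplex.exact_of_g_is_cokernel _ (cokernelIsCokernel φ)) ‹_› inferInstance
  have hBd : topologicalKrullDim ↥(CohB1.support B) ≤ (e : WithBot ℕ∞) :=
    (topologicalKrullDim_subspace_le ↥X (CohB1.support B)).trans he.le
  have h1 : VarBase.lenAt B (genericPoint X) =
      VarBase.lenAt A (genericPoint X) + VarBase.lenAt (cokernel φ) (genericPoint X) :=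
    VarBase.lenAt_add hS hAc hBc hC hBd hed
  rw [lenAt_invertible hA, lenAt_invertible hB] at h1
  have hη : genericPoint X ∉ CohB1.support (cokernel φ) := by
    intro hη
    have hne := VarBase.length_ne_top hC
      (d := e) ((topologicalKrullDim_subspace_le ↥X (CohB1.support (cokernel φ))).trans he.le) hed
    have h0 : Module.length (X.presheaf.stalk (genericPoint X))
        ((cokernel φ).presheaf.stalk (genericPoint X)) = 0 := by
      have h2 : VarBase.lenAt (cokernel φ) (genericPoint X) = 0 := by omega
      rw [VarBase.lenAt, ENat.toNat_eq_zero] at h2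
      exact h2.resolve_right hne
    exact hη (Module.length_eq_zero_iff.1 h0)
  exact HilbPoly.dim_lt_closure (by rw [← hcl, VanGrowth.dim_univ]; exact hd)
    (QCoh.isClosed_support_of_isFT hC.1 hC.2) (hcl ▸ Set.subset_univ _) hη

/-- A monomorphism of invertible modules increases the symbols. -/
theorem mono_le [IsIntegral X] {l : List X.Modules} (hl : AllInv l)
    (hd : topologicalKrullDim X ≤ ((l.length + 1 : ℕ) : WithBot ℕ∞))
    (hpos : ∀ C : X.Modules, Coh.IsCoh C → DimLT C (l.length + 1) → 0 ≤ I k l C)
    {A B : X.Modules} (hA : PicF.IsInvertible A) (hB : PicF.IsInvertible B) (φ : A ⟶ B) [Mono φ] :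
    I k (A :: l) (Coh.structureModule X) ≤ I k (B :: l) (Coh.structureModule X) := by
  haveI := CurveCohLib.isNoetherian_of_proper (k := k) (X := X)
  have hAc := AmpleVan.isCoh_invertible hA
  have hBc := AmpleVan.isCoh_invertible hB
  have hC := QCoh.isCoh_cokernel hAc.1 hBc φ
  have hS : (ShortComplex.mk φ (cokernel.π φ) (cokernel.condition φ)).ShortExact :=
    .mk' (ShortComplex.exact_of_g_is_cokernel _ (cokernelIsCokernel φ)) ‹_› inferInstance
  have hadd : I k l B = I k l A + I k l (cokernel φ) := (I_additive k hl).add _ hS hAc hBc hC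
  have hC0 := hpos _ hC (dimLT_cokernel k hd hA hB φ)
  have e : ∀ M : X.Modules, I k l ((AmpleVan.tw M).obj (Coh.structureModule X)) = I k l M :=
    fun M => I_congr_module k (CurveTensor.structureTensorIso M) l
  show I k l _ - I k l _ ≤ I k l _ - I k l _
  rw [e, e]
  omega

include k in
/-- The structure sheaf pushed along a closed immersion onto everything. -/
theorem nonempty_push_structure_of_surjective [IsIntegral X] {Z : Scheme.{u}} [IsIntegral Z] (i : Z ⟶ X)
    [IsClosedImmersion i] (hr : Set.range i = Set.univ) :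
    Nonempty ((Coh.push i).obj (Coh.structureModule Z) ≅ Coh.structureModule X) := by
  haveI := CurveCohLib.isNoetherian_of_proper (k := k) (X := X)
  obtain ⟨e⟩ := QCoh.push_structure_iso i (𝟙 X)
    ((Set.range_eq_univ.2 fun x => ⟨x, rfl⟩).trans hr.symm)
  exact ⟨e.symm ≪≫ (Scheme.Modules.pushforwardId X).app _⟩

/-- On an integral scheme `I l O_X` is read off the push along the identity. -/
theorem I_push_id (l : List X.Modules) :
    I k l ((Coh.push (𝟙 X)).obj (Coh.structureModule X)) = I k l (Coh.structureModule X) :=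
  I_congr_module k ((Scheme.Modules.pushforwardId X).app _) l

end Groth.Agent.Nef45
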