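import Groth.Agent.Nef45.Facts
import Groth.Agent.VanGrowth.Big
import Groth.Agent.Growth22.Asymp

/-!
# A nef module with positive top self-intersection has maximal growth
-/

set_option linter.style.haveILetI false
set_option linter.unusedSectionVars false
set_option backward.isDefEq.respectTransparency false
set_option backward.isDefEq.respectTransparency.types false

universe u

open CategoryTheory CategoryTheory.Limits AlgebraicGeometry TopologicalSpace
open Groth.Agent.HilbPoly (iterD DimLT)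
open scoped Groth.Agent.H23.PicMul

attribute [local instance] HasDerivedCategory.standard

noncomputable section

namespace Groth.Agent.Nef45

open Groth.Agent

variable (k : Type u) [Field k] {X : Scheme.{u}} [X.Over (Spec (CommRingCat.of k))]
  [IsProper (X ↘ Spec (CommRingCat.of k))] {L H : X.Modules}

theorem sz_two (a b : ℕ) : Growth22.sz (![(a : ℤ), (b : ℤ)]) = a + b := by
  simp [Growth22.sz, Fin.sum_univ_two]

/-- Positive top self-intersection gives growth of maximal order. -/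
theorem exists_growth_of_pos [IsIntegral X] {d : ℕ} (hn : topologicalKrullDim X = ((d + 1 : ℕ) : WithBot ℕ∞))
    (hH : CohB1.IsAmple H) (hL : PicF.IsInvertible L) (hnef : IsNef k L)
    (hpos : 0 < I k (List.replicate (d + 1) L) (Coh.structureModule X)) :
    ∃ ν a : ℕ, 0 < ν ∧ 0 < a ∧ ∀ μ : ℕ, 1 ≤ μ →
      μ ^ (d + 1) ≤ a * VanGrowth.h0 k (CohB1.tensorPow L (ν * μ)) := by
  haveI := CurveCohLib.isNoetherian_of_proper (k := k) (X := X)
  have hO : Coh.IsCoh (Coh.structureModule X) := QCoh.isCoh_structureModule'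
  obtain ⟨L', hL', hLu⟩ := H23.PicInv.exists_inverse hL
  obtain ⟨H', hH', hHu⟩ := H23.PicInv.exists_inverse hH.1
  let D : Growth22.Pairs X 2 :=
    { L := ![L, H]
      M := ![L', H']
      invL := Fin.forall_fin_two.2 ⟨hL, hH.1⟩
      inv := Fin.forall_fin_two.2 ⟨hLu, hHu⟩ }
  set f := Growth22.F₀ k D (Coh.structureModule X) 0
  obtain ⟨c, hc⟩ := Growth22.lipschitz (f := f) (d := d)
    fun j => Growth22.near_bump k D hO (Growth22.small_top hn.le _) 0 j
  set N := I k (List.replicate (d + 1) L) (Coh.structureModule X)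
  -- the multiple `b` of `L`
  set b := 4 * (d + 1).factorial * c * 5 ^ d + 1 with hb
  have hb0 : 0 < b := Nat.succ_pos _
  set M := comb L H 1 b with hMdef
  have hM : CohB1.IsAmple M := isAmple_comb_of_nef k hL hnef hH one_pos hb0
  have hds : topologicalKrullDim ↥(CohB1.support (Coh.structureModule X)) ≤ ((d + 1 : ℕ) : WithBot ℕ∞) :=
    (topologicalKrullDim_subspace_le ↥X _).trans hn.le
  have hlow : (b : ℝ) ^ (d + 1) * (N : ℝ) ≤ I k (List.replicate (d + 1) M) (Coh.structureModule X) := by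
    have h := expand k hL hH.1 (F := Coh.structureModule X) hO 1 hb0 (d + 1) 0 0 (dimLT_top hn.le _)
    simp only [rep, List.replicate_zero, List.append_nil] at h
    rw [h]
    refine mul_le_mul_of_nonneg_left ?_ (by positivity)
    have h2 := c_le_G (c := tab k L H (Coh.structureModule X)) (t := ((1 : ℕ) : ℝ) / b) (by positivity) (d + 1) 0
      fun p q _ he => by
        have := nonneg_rep k hL hnef hH hO (p := p) (q := q)
          (by rw [show p + q = d + 1 by omega]; exact dimLT_top hn.le _)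
        simp only [tab]
        exact_mod_cast this
    simpa [tab, rep, N] using h2
  obtain ⟨P, m₀, hdeg, hα, hP⟩ := VanGrowth.exists_h0_poly k hM hO hds
  have hfac : (0 : ℚ) < (d + 1).factorial := by exact_mod_cast (d + 1).factorial_pos
  have hlowQ : (b : ℚ) ^ (d + 1) * (N : ℚ) ≤ (d + 1).factorial * P.coeff (d + 1) := by
    have h1 : (b : ℤ) ^ (d + 1) * N ≤ HilbPoly.mult k M (d + 1) (Coh.structureModule X) := by
      show _ ≤ I k (List.replicate (d + 1) M) (Coh.structureModule X)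
      exact_mod_cast hlow
    have h2 : ((d + 1).factorial : ℚ) * P.coeff (d + 1) = StabCat.alpha (d + 1) P := rfl
    rw [h2, hα]
    exact_mod_cast h1
  have hN : (1 : ℚ) ≤ N := by exact_mod_cast hpos
  have hbQ : (0 : ℚ) < b := by exact_mod_cast hb0
  have hcoef : 0 < P.coeff (d + 1) := by
    have : (0 : ℚ) < (d + 1).factorial * P.coeff (d + 1) := lt_of_lt_of_le (by positivity) hlowQ
    exact pos_of_mul_pos_right this hfac.le
  obtain ⟨K₀, hK₀, hPlow⟩ := VanGrowth.exists_poly_lower P hdeg hcoef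
  set K := K₀ + m₀ with hK
  have main : ∀ x : ℕ, K ≤ x → (x : ℚ) ^ (d + 1) * ((b : ℚ) ^ (d + 1) / (4 * (d + 1).factorial)) ≤
      VanGrowth.h0 k (CohB1.tensorPow L (b * x)) := by
    intro x hx
    have hx1 : 1 ≤ x := by omega
    have h1 : (P.coeff (d + 1) / 2 * (x : ℚ) ^ (d + 1)) ≤ (f ![((b * x : ℕ) : ℤ), (x : ℤ)] : ℚ) := by
      refine (hPlow x (by omega)).trans_eq ?_
      rw [← hP x (by omega)]
      refine congrArg (fun n : ℕ => (n : ℚ)) ?_
      refine HilbPoly.finrank_HH_iso k (H23.PicMul.cl_eq_iff.1 ?_).some 0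
      rw [H23.PicMul.cl_tensor, H23.PicMul.cl_tensor, H23.PicMul.cl_tensorPow, hMdef, comb,
        H23.PicMul.cl_tensor, H23.PicMul.cl_tensorPow, H23.PicMul.cl_tensorPow, D.cl_N, mul_pow, ← pow_mul, ← pow_mul]
      simp [Fin.prod_univ_two, D, Growth22.Pairs.unit]
      simp only [← Nat.cast_mul, zpow_natCast, Units.val_pow_eq_pow_val]
    have h2 : f ![((b * x : ℕ) : ℤ), ((0 : ℕ) : ℤ)] = VanGrowth.h0 k (CohB1.tensorPow L (b * x)) := by
      refine HilbPoly.finrank_HH_iso k (H23.PicMul.cl_eq_iff.1 ?_).some 0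
      rw [H23.PicMul.cl_tensor, H23.PicMul.cl_tensorPow, D.cl_N, ← H23.PicMul.one_def, one_mul]
      simp [Fin.prod_univ_two, D, Growth22.Pairs.unit]
      simp only [← Nat.cast_mul, zpow_natCast, Units.val_pow_eq_pow_val]
    have h3 := hc ![((b * x : ℕ) : ℤ), (x : ℤ)] ![((b * x : ℕ) : ℤ), ((0 : ℕ) : ℤ)]
    rw [h2] at h3
    have hbox : 1 + Growth22.box ![((b * x : ℕ) : ℤ), (x : ℤ)] ![((b * x : ℕ) : ℤ), ((0 : ℕ) : ℤ)] ≤ 5 * b * x := by
      refine (Nat.add_le_add_left (Growth22.box_le_add _ _) 1).trans ?_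
      rw [sz_two, sz_two]
      have : x ≤ b * x := Nat.le_mul_of_pos_left x hb0
      nlinarith
    have hdiff : Growth22.sz (![((b * x : ℕ) : ℤ), (x : ℤ)] - ![((b * x : ℕ) : ℤ), ((0 : ℕ) : ℤ)]) = x := by
      simp [Growth22.sz, Fin.sum_univ_two]
    rw [hdiff] at h3
    have h4 : (f ![((b * x : ℕ) : ℤ), (x : ℤ)] : ℚ) ≤
        VanGrowth.h0 k (CohB1.tensorPow L (b * x)) + c * (5 * b * x : ℚ) ^ d * x := by
      have h5 := h3.trans (Nat.add_le_add_left
        (Nat.mul_le_mul_right x (Nat.mul_le_mul_left c (Nat.pow_le_pow_left hbox d))) _)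
      exact_mod_cast h5
    have hbound : (4 * (d + 1).factorial * c * 5 ^ d : ℚ) ≤ b := by
      rw [hb]; push_cast; linarith
    have h6 : (c : ℚ) * (5 * b * x : ℚ) ^ d * x ≤
        (x : ℚ) ^ (d + 1) * ((b : ℚ) ^ (d + 1) / (4 * (d + 1).factorial)) := by
      rw [mul_div_assoc', le_div_iff₀ (by positivity)]
      have e : (c : ℚ) * (5 * b * x : ℚ) ^ d * x * (4 * (d + 1).factorial) =
          (x : ℚ) ^ (d + 1) * ((b : ℚ) ^ d * (4 * (d + 1).factorial * c * 5 ^ d)) := by
        rw [mul_pow, mul_pow, pow_succ]; ring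
      rw [e, pow_succ (b : ℚ)]
      exact mul_le_mul_of_nonneg_left (mul_le_mul_of_nonneg_left hbound (by positivity)) (by positivity)
    have h7 : (b : ℚ) ^ (d + 1) / (d + 1).factorial ≤ P.coeff (d + 1) := by
      rw [div_le_iff₀ hfac]
      calc (b : ℚ) ^ (d + 1) ≤ (b : ℚ) ^ (d + 1) * N := le_mul_of_one_le_right (by positivity) hN
        _ ≤ _ := hlowQ.trans_eq (mul_comm _ _)
    have h8 := mul_le_mul_of_nonneg_right h7 (show (0 : ℚ) ≤ (x : ℚ) ^ (d + 1) / 2 by positivity)
    have h9 : (b : ℚ) ^ (d + 1) / (d + 1).factorial * ((x : ℚ) ^ (d + 1) / 2) =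
        2 * ((x : ℚ) ^ (d + 1) * ((b : ℚ) ^ (d + 1) / (4 * (d + 1).factorial))) := by ring
    linarith
  refine ⟨b * K, 4 * (d + 1).factorial, Nat.mul_pos hb0 (by omega), by positivity, fun μ hμ => ?_⟩
  have h := main (K * μ) (Nat.le_mul_of_pos_right K hμ)
  rw [mul_div_assoc', div_le_iff₀ (by positivity), ← mul_assoc b K μ] at h
  have hb1 : (1 : ℚ) ≤ (b : ℚ) ^ (d + 1) := one_le_pow₀ (by exact_mod_cast hb0)
  have hμK : ((μ : ℕ) : ℚ) ^ (d + 1) ≤ ((K * μ : ℕ) : ℚ) ^ (d + 1) := by
    exact_mod_cast Nat.pow_le_pow_left (Nat.le_mul_of_pos_left μ (by omega)) (d + 1)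
  have hle := hμK.trans ((le_mul_of_one_le_right (by positivity) hb1).trans h)
  rw [← Nat.cast_le (α := ℚ)]
  push_cast
  linarith [hle]

end Groth.Agent.Nef45
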