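import Groth.Agent.Nef45.Kleiman
import Groth.Agent.IntNum47.Binom
import Groth.Prelude.Def_Pic13

/-!
# Dictionary with degrees on curves and intersection numbers
-/

set_option linter.style.haveILetI false
set_option linter.unusedSectionVars false
set_option backward.isDefEq.respectTransparency false
set_option backward.isDefEq.respectTransparency.types false

universe u

open CategoryTheory CategoryTheory.Limits AlgebraicGeometry TopologicalSpace
open Groth.Agent.HilbPoly (iterD DimLT)
open scoped Groth.Agent.H23.PicMul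

attribute [local instance] HasDerivedCategory.standard

noncomputable section

namespace Groth.Agent.Nef45

open Groth.Agent

variable (k : Type u) [Field k] {X : Scheme.{u}} [X.Over (Spec (CommRingCat.of k))]
  [IsProper (X ↘ Spec (CommRingCat.of k))] {L M : X.Modules}

theorem I_singleton_eq_curveDeg (hL : PicF.IsInvertible L) {Y : Scheme.{u}} (i : Y ⟶ X) [IsClosedImmersion i]
    (hY : topologicalKrullDim Y = 1) :
    I k [L] ((Coh.push i).obj (Coh.structureModule Y)) =
      Pic13.curveDeg k (i ≫ (X ↘ Spec (CommRingCat.of k))) ((Scheme.Modules.pullback i).obj L) := by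
  letI : Y.Over (Spec (CommRingCat.of k)) := ⟨i ≫ (X ↘ Spec (CommRingCat.of k))⟩
  haveI : IsProper (Y ↘ Spec (CommRingCat.of k)) := VarBase.isProper_sub i k
  exact IntNum47.iterD_push_structure_eq_curveDeg k i rfl (by rw [hY, Nat.cast_one]) hL

theorem isNef_iff_curveDeg (hL : PicF.IsInvertible L) :
    IsNef k L ↔ ∀ (Y : Scheme.{u}) (i : Y ⟶ X) [IsClosedImmersion i], IsIntegral Y → topologicalKrullDim Y = 1 →
      0 ≤ Pic13.curveDeg k (i ≫ (X ↘ Spec (CommRingCat.of k))) ((Scheme.Modules.pullback i).obj L) :=
  ⟨fun h Y i hi hY hd => I_singleton_eq_curveDeg k hL i hd ▸ h Y i hi hY hd,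
    fun h Y i hi hY hd => by haveI := hi; exact (I_singleton_eq_curveDeg k hL i hd).symm ▸ h Y i hY hd⟩

/-- A power of the inverse is the negative. -/
theorem I_replicate_inv (hL : PicF.IsInvertible L) (hM : PicF.IsInvertible M)
    (hLM : PicF.cl M * PicF.cl L = 1) {F : X.Modules} (hF : Coh.IsCoh F) :
    ∀ (j : ℕ) (l : List X.Modules), AllInv l → DimLT F (j + l.length + 1) →
      I k (List.replicate j M ++ l) F = (-1) ^ j * I k (List.replicate j L ++ l) F
  | 0, l, _, _ => by simp
  | j + 1, l, hl, hd => by
    have hmid : I k (List.replicate (j + 1) M ++ l) F = I k (List.replicate j M ++ M :: l) F :=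
      I_perm k List.perm_middle.symm F
    have hM0 : ∀ l' : List X.Modules, AllInv l' → DimLT F (l'.length + 2) →
        I k (M :: l') F = -I k (L :: l') F := fun l' hl' hd' => by
      have h := I_tensor k hM hL hl' hF hd'
      rw [I_congr_cl k (B := Coh.structureModule X) (by rw [H23.PicMul.cl_tensor, hLM, H23.PicMul.one_def]),
        I_structure] at h
      linarith
    rw [hmid, I_replicate_inv hL hM hLM hF j (M :: l) (AllInv.cons hM hl)
      (by simpa [show j + (l.length + 1) + 1 = j + 1 + l.length + 1 by omega] using hd),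
      I_perm k List.perm_middle F, hM0 _ ((AllInv.replicate hL j).append hl) (by
        simpa [show j + l.length + 2 = j + 1 + l.length + 1 by omega] using hd)]
    rw [show L :: (List.replicate j L ++ l) = List.replicate (j + 1) L ++ l from rfl]
    ring

/-- Intersection numbers of copies of the inverse. -/
theorem intNum_inv (hL : PicF.IsInvertible L) {Linv : X.Modules} (hinv : ClSub.IsInverseOf Linv L) {n : ℕ}
    (hn : topologicalKrullDim X ≤ (n : WithBot ℕ∞)) (m : ℕ) {F : X.Modules} (hF : Coh.IsCoh F)
    (hd : DimLT F (m + 1)) :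
    FGA.intNum k X n (fun _ : Fin m => Linv) F = I k (List.replicate m L) F := by
  have hM : PicF.IsInvertible Linv := IntNum47.isInvertible_of_inverse hL (CurveTensor.commIso L Linv ≪≫ hinv.some)
  have hcl : PicF.cl Linv * PicF.cl L = 1 := by
    rw [← H23.PicMul.cl_tensor, H23.PicMul.one_def]
    exact H23.PicMul.cl_eq_iff.2 hinv
  rw [IntNum47.intNum_eq k hn (fun _ => hM) hF, List.ofFn_const]
  have h := I_replicate_inv k hL hM hcl hF m [] (by intro _ h; simp at h) (by simpa using hd)
  rw [List.append_nil, List.append_nil] at h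
  show (-1 : ℤ) ^ m * I k _ _ = _
  rw [h, ← mul_assoc, ← mul_pow]
  simp

include k in
omit [X.Over (Spec (CommRingCat.of k))] [IsProper (X ↘ Spec (CommRingCat.of k))] in
theorem dimLT_push {Z : Scheme.{u}} (i : Z ⟶ X) [IsClosedImmersion i] {n : ℕ}
    (hd : topologicalKrullDim Z ≤ (n : WithBot ℕ∞)) :
    DimLT ((Coh.push i).obj (Coh.structureModule Z)) (n + 1) :=
  HilbPoly.dimLT_of_subset (QCoh.support_push_subset i QCoh.isQCoh_structureModule)
    (HilbPoly.lt_succ_of_le (by rw [VarBase.dim_range]; exact hd))

omit [X.Over (Spec (CommRingCat.of k))] [IsProper (X ↘ Spec (CommRingCat.of k))] in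
theorem dimLT_top {n : ℕ} (hn : topologicalKrullDim X ≤ (n : WithBot ℕ∞)) (F : X.Modules) : DimLT F (n + 1) :=
  lt_of_le_of_lt ((topologicalKrullDim_subspace_le ↥X _).trans hn) (by exact_mod_cast Nat.lt_succ_self n)

end Groth.Agent.Nef45
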