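import Groth.Agent.Nef45.Table

/-!
# Kleiman's theorem: numerically effective modules are limits of ample ones
-/

set_option linter.style.haveILetI false
set_option linter.unusedSectionVars false
set_option backward.isDefEq.respectTransparency false
set_option backward.isDefEq.respectTransparency.types false

universe u

open CategoryTheory CategoryTheory.Limits AlgebraicGeometry TopologicalSpace
open Groth.Agent.HilbPoly (iterD DimLT)

attribute [local instance] HasDerivedCategory.standard

noncomputable section

namespace Groth.Agent.Nef45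

open Groth.Agent

variable (k : Type u) [Field k]

/-- Non-negativity in dimension `d` on integral schemes. -/
def Step (d : ℕ) : Prop :=
  ∀ (X : Scheme.{u}) [X.Over (Spec (CommRingCat.of k))] [IsProper (X ↘ Spec (CommRingCat.of k))] [IsIntegral X],
    topologicalKrullDim X = (d : WithBot ℕ∞) → ∀ L H : X.Modules, PicF.IsInvertible L → IsNef k L →
      CohB1.IsAmple H → ∀ p q, p + q = d → 0 ≤ I k (rep L H p q) (Coh.structureModule X)

variable {X : Scheme.{u}} [X.Over (Spec (CommRingCat.of k))] [IsProper (X ↘ Spec (CommRingCat.of k))]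
  {L H : X.Modules}

/-- From integral schemes to coherent modules. -/
theorem coh_nonneg_of_step {d : ℕ} (hS : Step k d) (hL : PicF.IsInvertible L) (hnef : IsNef k L)
    (hH : CohB1.IsAmple H) {F : X.Modules} (hF : Coh.IsCoh F) (hd : DimLT F (d + 1)) {p q : ℕ}
    (hpq : p + q = d) : 0 ≤ I k (rep L H p q) F := by
  refine nonneg_of_integral k (allInv_rep hL hH.1 p q) (fun Z i hi hZ hdim => ?_) hF
    (by rwa [length_rep, hpq])
  haveI := hi
  haveI := hZ
  letI : Z.Over (Spec (CommRingCat.of k)) := ⟨i ≫ (X ↘ Spec (CommRingCat.of k))⟩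
  haveI : IsProper (Z ↘ Spec (CommRingCat.of k)) := VarBase.isProper_sub i k
  haveI := CurveCohLib.isNoetherian_of_proper (k := k) (X := Z)
  haveI : CompactSpace X := QuasiCompact.compactSpace_of_compactSpace (X ↘ Spec (CommRingCat.of k))
  haveI : CompactSpace Z := i.isClosedEmbedding.compactSpace
  rw [length_rep, hpq] at hdim
  rw [I_push k i rfl (allInv_rep hL hH.1 p q) QCoh.isCoh_structureModule', map_rep]
  exact hS Z hdim _ _ (PicClLib.isInvertible_pullback i hL) (hnef.pullback k hL i rfl)
    (AmpleVan.isAmple_pullback_of_isEmbedding i i.isClosedEmbedding.isEmbedding hH) p q hpq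

theorem ample_top_pos [IsIntegral X] {d : ℕ} (hd : topologicalKrullDim X = (d : WithBot ℕ∞))
    (hH : CohB1.IsAmple H) : 0 < I k (List.replicate d H) (Coh.structureModule X) := by
  haveI := CurveCohLib.isNoetherian_of_proper (k := k) (X := X)
  have hds : topologicalKrullDim ↥(CohB1.support (Coh.structureModule X)) = (d : WithBot ℕ∞) := by
    rw [VanGrowth.support_structureModule, VanGrowth.dim_univ, hd]
  exact (HilbPoly.mult_nonneg_and_pos k hH d _ QCoh.isCoh_structureModule' hds.le).2 hds

include k in
/-- An ample module has a power with a monomorphism from the structure sheaf. -/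
theorem exists_mono_section [IsIntegral X] (hA : CohB1.IsAmple L) :
    ∃ (a : ℕ) (s : Coh.structureModule X ⟶ CohB1.tensorPow L a), 0 < a ∧ Mono s := by
  obtain ⟨a, ha, s, hs, -⟩ := (AmpleX.isAmple_iff.1 hA).2.2 (genericPoint X)
  have hi := InvX.isInvertible_tensorPow hA.1 a
  exact ⟨a, s, ha, InvEnd.mono_of_ne_zero CurveDeg.isInvertible_structureModule hi s
    (VanGrowth.ne_zero_of_mem_genLocus hi hs)⟩

/-- A divisor of a multiple of an ample module: a non-negative symbol. -/
theorem cons_ample_nonneg [IsIntegral X] {A : X.Modules} (hA : CohB1.IsAmple A) {l : List X.Modules}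
    (hl : AllInv l) (hd : topologicalKrullDim X ≤ ((l.length + 1 : ℕ) : WithBot ℕ∞))
    (hpos : ∀ C : X.Modules, Coh.IsCoh C → DimLT C (l.length + 1) → 0 ≤ I k l C) :
    0 ≤ I k (A :: l) (Coh.structureModule X) := by
  haveI := CurveCohLib.isNoetherian_of_proper (k := k) (X := X)
  obtain ⟨a, s, ha, hs⟩ := exists_mono_section k hA
  haveI := hs
  have h := mono_le k hl hd hpos CurveDeg.isInvertible_structureModule (InvX.isInvertible_tensorPow hA.1 a) s
  rw [I_structure, I_pow k hA.1 hl QCoh.isCoh_structureModule' (lt_of_le_of_lt
    ((topologicalKrullDim_subspace_le ↥X (CohB1.support (Coh.structureModule X))).trans hd)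
    (by exact_mod_cast Nat.lt_succ_self (l.length + 1)))] at h
  exact nonneg_of_mul_nonneg_right h (by exact_mod_cast ha)

/-- Ampleness of `bL + aH` from positivity of its top self-intersection. -/
theorem isAmple_comb [IsIntegral X] {d : ℕ} (hd : topologicalKrullDim X = (d : WithBot ℕ∞))
    (ih : ∀ n < d, Step k n) (hL : PicF.IsInvertible L) (hnef : IsNef k L) (hH : CohB1.IsAmple H) {a b : ℕ}
    (ha : 0 < a) (hb : 0 < b) (hP : 0 < G (tab k L H (Coh.structureModule X)) d 0 0 ((a : ℝ) / b)) :
    CohB1.IsAmple (comb L H a b) := by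
  haveI := CurveCohLib.isNoetherian_of_proper (k := k) (X := X)
  refine VarBase.isAmple_of_posOn k (isInvertible_comb hL hH.1 a b) fun Z i hi hZ n hn hdim => ?_
  haveI := hi
  haveI := hZ
  show 0 < I k (List.replicate n (comb L H a b)) _
  have hrd : topologicalKrullDim ↥(Set.range i) = (n : WithBot ℕ∞) := by rw [VarBase.dim_range, hdim]
  by_cases hr : Set.range i = Set.univ
  · have hnd : n = d := by
      rw [hr, VanGrowth.dim_univ, hd] at hrd
      exact_mod_cast hrd.symm
    subst hnd
    rw [I_congr_module k (nonempty_push_structure_of_surjective k i hr).some]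
    have h := expand k hL hH.1 (F := Coh.structureModule X) QCoh.isCoh_structureModule' a hb n 0 0
      (lt_of_le_of_lt ((topologicalKrullDim_subspace_le ↥X _).trans hd.le) (by exact_mod_cast Nat.lt_succ_self n))
    simp only [rep, List.replicate_zero, List.append_nil] at h
    have : (0 : ℝ) < I k (List.replicate n (comb L H a b)) (Coh.structureModule X) := by
      rw [h]; positivity
    exact_mod_cast this
  · have hne : topologicalKrullDim X ≠ ⊤ := by
      rw [hd]
      exact WithBot.coe_injective.ne (a₁ := ((d : ℕ) : ℕ∞)) (a₂ := ⊤) (ENat.natCast_ne_top _)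
    have hlt := H23.TopDim.dim_lt_of_ssubset (X := ↥X) hne i.isClosedEmbedding.isClosed_range hr
    rw [hrd, hd] at hlt
    have hnd : n < d := by exact_mod_cast hlt
    set F := (Coh.push i).obj (Coh.structureModule Z)
    have hF : Coh.IsCoh F := QCoh.isCoh_push_structure i
    have hFd : DimLT F (n + 1) := HilbPoly.dimLT_of_subset
      (QCoh.support_push_subset i QCoh.isQCoh_structureModule) (HilbPoly.lt_succ_of_le hrd.le)
    have h := expand k hL hH.1 hF a hb n 0 0 hFd
    simp only [rep, List.replicate_zero, List.append_nil] at h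
    have h0 : (0 : ℝ) < tab k L H F 0 n := by
      have := VarBase.posOn_of_isAmple k hH Z i hi hZ n hn hdim
      simp only [tab, rep, List.replicate_zero, List.nil_append]
      exact_mod_cast this
    have hG := pow_mul_le_G (c := tab k L H F) (t := (a : ℝ) / b) (by positivity) n 0 0 fun p q _ _ hpq => by
      have := coh_nonneg_of_step k (ih n hnd) hL hnef hH hF hFd (p := p) (q := q) (by omega)
      simp only [tab]
      exact_mod_cast this
    rw [Nat.zero_add] at hG
    have hG0 : 0 < G (tab k L H F) n 0 0 ((a : ℝ) / b) := lt_of_lt_of_le (by positivity) hG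
    have : (0 : ℝ) < I k (List.replicate n (comb L H a b)) F := by rw [h]; positivity
    exact_mod_cast this

omit [X.Over (Spec (CommRingCat.of k))] [IsProper (X ↘ Spec (CommRingCat.of k))] in
theorem step_all : ∀ d, Step k d := by
  intro d
  induction d using Nat.strong_induction_on with
  | _ d ih =>
    intro X _ _ _ hd L H hL hnef hH p q hpq
    haveI := CurveCohLib.isNoetherian_of_proper (k := k) (X := X)
    have hO : DimLT (Coh.structureModule X) (d + 1) :=
      lt_of_le_of_lt ((topologicalKrullDim_subspace_le ↥X _).trans hd.le) (by exact_mod_cast Nat.lt_succ_self d)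
    have hq : ∀ p q, 1 ≤ q → p + q = d → 0 ≤ I k (rep L H p q) (Coh.structureModule X) := by
      intro p q hq hpq
      obtain ⟨q, rfl⟩ := Nat.exists_eq_add_of_le' hq
      rw [← I_rep_succ_right k]
      refine cons_ample_nonneg k hH (allInv_rep hL hH.1 p q)
        (by rw [length_rep, hd, show p + q + 1 = d by omega]) fun C hC hCd => ?_
      rw [length_rep] at hCd
      exact coh_nonneg_of_step k (ih (p + q) (by omega)) hL hnef hH hC hCd rfl
    rcases Nat.eq_zero_or_pos q with rfl | hq'
    swap
    · exact hq p q hq' hpq
    obtain rfl : p = d := by omega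
    rcases p with _ | e
    · simpa [rep] using (ample_top_pos k hd hH).le
    rcases e with _ | f
    · have h := hnef X (𝟙 X) inferInstance inferInstance (by simpa using hd)
      rw [I_push_id] at h
      exact h
    have key : (0 : ℝ) ≤ tab k L H (Coh.structureModule X) (f + 1 + 1) 0 := by
      refine top_nonneg (f + 1) (fun p q h1 h2 => ?_) ?_ fun a b ha hb hP => ?_
      · simp only [tab]
        exact_mod_cast hq p q h1 h2
      · have := ample_top_pos k hd hH
        simp only [tab, rep, List.replicate_zero, List.nil_append]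
        exact_mod_cast this
      · have hM := isAmple_comb k hd ih hL hnef hH ha hb hP
        have hlen : (List.replicate f (comb L H a b) ++ rep L H 1 0).length = f + 1 := by simp
        have hnn : 0 ≤ I k (comb L H a b :: (List.replicate f (comb L H a b) ++ rep L H 1 0))
            (Coh.structureModule X) := by
          refine cons_ample_nonneg k hM
            ((AllInv.replicate (isInvertible_comb hL hH.1 a b) f).append (allInv_rep hL hH.1 1 0))
            (by rw [hlen, hd]) fun C hC hCd => ?_
          rw [hlen] at hCd
          have h := expand k hL hH.1 hC a hb f 1 0 hCd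
          have hG : 0 ≤ G (tab k L H C) f 1 0 ((a : ℝ) / b) :=
            G_nonneg (by positivity) f 1 0 fun p' q' _ _ he => by
              have := coh_nonneg_of_step k (ih (f + 1) (by omega)) hL hnef hH hC hCd (p := p') (q := q') (by omega)
              simp only [tab]
              exact_mod_cast this
          have : (0 : ℝ) ≤ I k (List.replicate f (comb L H a b) ++ rep L H 1 0) C := by rw [h]; positivity
          exact_mod_cast this
        have h := expand k hL hH.1 (F := Coh.structureModule X) QCoh.isCoh_structureModule' a hb (f + 1) 1 0 hO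
        have hnn' : (0 : ℝ) ≤ (b : ℝ) ^ (f + 1) * G (tab k L H (Coh.structureModule X)) (f + 1) 1 0 ((a : ℝ) / b) := by
          rw [← h]
          exact_mod_cast hnn
        exact nonneg_of_mul_nonneg_right hnn' (by positivity)
    simp only [tab] at key
    exact_mod_cast key

/-- Kleiman: `L^p H^q · F ≥ 0`. -/
theorem nonneg_rep (hL : PicF.IsInvertible L) (hnef : IsNef k L) (hH : CohB1.IsAmple H) {F : X.Modules}
    (hF : Coh.IsCoh F) {p q : ℕ} (hd : DimLT F (p + q + 1)) : 0 ≤ I k (rep L H p q) F :=
  coh_nonneg_of_step k (step_all k (p + q)) hL hnef hH hF hd rfl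

/-- Kleiman: `bL + aH` is ample for `a > 0`. -/
theorem isAmple_comb_of_nef (hL : PicF.IsInvertible L) (hnef : IsNef k L) (hH : CohB1.IsAmple H) {a b : ℕ}
    (ha : 0 < a) (hb : 0 < b) : CohB1.IsAmple (comb L H a b) := by
  haveI := CurveCohLib.isNoetherian_of_proper (k := k) (X := X)
  refine VarBase.isAmple_of_posOn k (isInvertible_comb hL hH.1 a b) fun Z i hi hZ n hn hdim => ?_
  haveI := hi
  haveI := hZ
  show 0 < I k (List.replicate n (comb L H a b)) _
  set F := (Coh.push i).obj (Coh.structureModule Z)
  have hF : Coh.IsCoh F := QCoh.isCoh_push_structure i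
  have hFd : DimLT F (n + 1) := HilbPoly.dimLT_of_subset
    (QCoh.support_push_subset i QCoh.isQCoh_structureModule)
    (HilbPoly.lt_succ_of_le (by rw [VarBase.dim_range, hdim]))
  have h := expand k hL hH.1 hF a hb n 0 0 hFd
  simp only [rep, List.replicate_zero, List.append_nil] at h
  have h0 : (0 : ℝ) < tab k L H F 0 n := by
    have := VarBase.posOn_of_isAmple k hH Z i hi hZ n hn hdim
    simp only [tab, rep, List.replicate_zero, List.nil_append]
    exact_mod_cast this
  have hG := pow_mul_le_G (c := tab k L H F) (t := (a : ℝ) / b) (by positivity) n 0 0 fun p q _ _ hpq => by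
    have := nonneg_rep k hL hnef hH hF (p := p) (q := q) (by rwa [show p + q = n by omega])
    simp only [tab]
    exact_mod_cast this
  rw [Nat.zero_add] at hG
  have hG0 : 0 < G (tab k L H F) n 0 0 ((a : ℝ) / b) := lt_of_lt_of_le (by positivity) hG
  have : (0 : ℝ) < I k (List.replicate n (comb L H a b)) F := by rw [h]; positivity
  exact_mod_cast this

end Groth.Agent.Nef45
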