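import Mathlib.Topology.Instances.Real.Lemmas
import Mathlib.Topology.Order.IntermediateValue
import Mathlib.Tactic.Positivity
import Mathlib.Tactic.Linarith
import Mathlib.Tactic.FieldSimp

/-!
# The positivity argument on the polynomial `(L + tH)^d`
-/

namespace Groth.Agent.Nef45

/-- The polynomial `(L + tH)^m L^p H^q` from the table of values of `L^p H^q`. -/
noncomputable def G (c : ℕ → ℕ → ℝ) : ℕ → ℕ → ℕ → ℝ → ℝ
  | 0, p, q, _ => c p q
  | m + 1, p, q, t => G c m (p + 1) q t + t * G c m p (q + 1) t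

variable {c : ℕ → ℕ → ℝ}

theorem continuous_G : ∀ m p q, Continuous (G c m p q)
  | 0, p, q => continuous_const
  | m + 1, p, q => by
    show Continuous fun t => G c m (p + 1) q t + t * G c m p (q + 1) t
    exact (continuous_G m _ _).add (continuous_id.mul (continuous_G m _ _))

theorem G_zero : ∀ m p q, G c m p q 0 = c (p + m) q
  | 0, p, q => rfl
  | m + 1, p, q => by
    show G c m (p + 1) q 0 + 0 * _ = _
    rw [zero_mul, add_zero, G_zero m, Nat.add_right_comm, Nat.add_assoc]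

theorem G_nonneg {t : ℝ} (ht : 0 ≤ t) : ∀ m p q,
    (∀ p' q', p ≤ p' → q ≤ q' → p' + q' = m + p + q → 0 ≤ c p' q') → 0 ≤ G c m p q t
  | 0, p, q, h => h p q le_rfl le_rfl (by omega)
  | m + 1, p, q, h => by
    show 0 ≤ G c m (p + 1) q t + t * G c m p (q + 1) t
    have h1 := G_nonneg ht m (p + 1) q fun p' q' hp hq he => h p' q' (by omega) hq (by omega)
    have h2 := G_nonneg ht m p (q + 1) fun p' q' hp hq he => h p' q' hp (by omega) (by omega)
    positivity

theorem pow_mul_le_G {t : ℝ} (ht : 0 ≤ t) : ∀ m p q,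
    (∀ p' q', p ≤ p' → q ≤ q' → p' + q' = m + p + q → 0 ≤ c p' q') → t ^ m * c p (q + m) ≤ G c m p q t
  | 0, p, q, _ => le_of_eq (by simp [G])
  | m + 1, p, q, h => by
    show _ ≤ G c m (p + 1) q t + t * G c m p (q + 1) t
    have h1 := G_nonneg ht m (p + 1) q fun p' q' hp hq he => h p' q' (by omega) hq (by omega)
    have h2 := mul_le_mul_of_nonneg_left
      (pow_mul_le_G ht m p (q + 1) fun p' q' hp hq he => h p' q' hp (by omega) (by omega)) ht
    rw [show q + (m + 1) = q + 1 + m by omega, pow_succ']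
    linarith

theorem c_le_G {t : ℝ} (ht : 0 ≤ t) : ∀ m p,
    (∀ p' q', 1 ≤ q' → p' + q' = m + p → 0 ≤ c p' q') → c (p + m) 0 ≤ G c m p 0 t
  | 0, p, _ => le_rfl
  | m + 1, p, h => by
    show _ ≤ G c m (p + 1) 0 t + t * G c m p 1 t
    have h1 := c_le_G ht m (p + 1) fun p' q' hq he => h p' q' hq (by omega)
    have h2 := G_nonneg ht m p 1 fun p' q' hp hq he => h p' q' hq (by omega)
    rw [show p + (m + 1) = p + 1 + m by omega]
    have := mul_nonneg ht h2
    linarith

/-- The top value is non-negative. -/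
theorem top_nonneg (e : ℕ) (hq : ∀ p q, 1 ≤ q → p + q = e + 1 → 0 ≤ c p q) (h0 : 0 < c 0 (e + 1))
    (hQ : ∀ a b : ℕ, 0 < a → 0 < b → 0 < G c (e + 1) 0 0 ((a : ℝ) / b) → 0 ≤ G c e 1 0 ((a : ℝ) / b)) :
    0 ≤ c (e + 1) 0 := by
  by_contra hneg
  rw [not_le] at hneg
  set P := G c (e + 1) 0 0 with hP
  have hPdef : ∀ t, P t = G c e 1 0 t + t * G c e 0 1 t := fun t => rfl
  have hR : ∀ t : ℝ, 0 ≤ t → t ^ (e + 1) * c 0 (e + 1) ≤ t * G c e 0 1 t := fun t ht => by
    have := mul_le_mul_of_nonneg_left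
      (pow_mul_le_G ht e 0 1 fun p' q' _ hq1 he => hq p' q' hq1 (by omega)) ht
    rw [Nat.add_comm 1 e] at this
    rw [pow_succ', mul_assoc]
    exact this
  set T : ℝ := max 1 (1 - c (e + 1) 0 / c 0 (e + 1)) with hT
  have hT1 : 1 ≤ T := le_max_left _ _
  have hT0 : 0 ≤ T := by linarith
  have hPT : 0 < P T := by
    have h1 := c_le_G hT0 e 1 fun p' q' hq' he => hq p' q' hq' (by omega)
    rw [Nat.add_comm 1 e] at h1
    have h2 := hR T hT0
    have h3 : T ≤ T ^ (e + 1) := le_self_pow₀ hT1 (Nat.succ_ne_zero e)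
    have h4 : 1 - c (e + 1) 0 / c 0 (e + 1) ≤ T := le_max_right _ _
    rw [sub_le_iff_le_add, ← sub_le_iff_le_add', le_div_iff₀ h0] at h4
    have h5 := mul_le_mul_of_nonneg_right h3 h0.le
    rw [hPdef]
    nlinarith
  set S : Set ℝ := Set.Icc 0 T ∩ P ⁻¹' Set.Iic 0 with hS
  have hc : IsCompact S := isCompact_Icc.inter_right (isClosed_Iic.preimage (continuous_G _ _ _))
  have hne : S.Nonempty := ⟨0, ⟨le_rfl, hT0⟩, by
    show P 0 ≤ 0
    rw [hP, G_zero, Nat.zero_add]
    exact hneg.le⟩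
  set t0 := sSup S with ht0
  obtain ⟨⟨ht0n, ht0T⟩, ht0P⟩ := hc.sSup_mem hne
  change P t0 ≤ 0 at ht0P
  have ht0lt : t0 < T := lt_of_le_of_ne ht0T fun h => by rw [h] at ht0P; linarith
  let f : ℝ → ℝ := fun t => P t - t ^ (e + 1) * c 0 (e + 1)
  have hf : 0 ≤ f t0 := by
    by_contra hlt
    rw [not_le] at hlt
    have hcont : Continuous f := (continuous_G _ _ _).sub ((continuous_pow _).mul continuous_const)
    obtain ⟨l, r, ⟨hl, hr⟩, hsub⟩ :=
      mem_nhds_iff_exists_Ioo_subset.1 ((hcont.continuousAt (x := t0)).preimage_mem_nhds (Iio_mem_nhds hlt))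
    obtain ⟨q, hq1, hq2⟩ := exists_rat_btwn (show t0 < min r T from lt_min hr ht0lt)
    have hqpos : (0 : ℝ) < q := lt_of_le_of_lt ht0n hq1
    have hqpos' : 0 < q.num := Rat.num_pos.2 (by exact_mod_cast hqpos)
    have hqeq : ((q.num.toNat : ℕ) : ℝ) / (q.den : ℕ) = q := by
      rw [Rat.cast_def]
      congr 1
      exact_mod_cast Int.toNat_of_nonneg hqpos'.le
    have hPq : 0 < P q := by
      by_contra hle
      rw [not_lt] at hle
      have : (q : ℝ) ≤ t0 := le_csSup hc.bddAbove ⟨⟨hqpos.le, (hq2.trans_le (min_le_right _ _)).le⟩, hle⟩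
      linarith
    have hQq := hQ q.num.toNat q.den (by omega) q.den_pos (by rw [hqeq]; exact hPq)
    rw [hqeq] at hQq
    have hfq : f q < 0 := hsub ⟨hl.trans hq1, hq2.trans_le (min_le_left _ _)⟩
    have := hR q hqpos.le
    simp only [f, hPdef] at hfq
    linarith
  simp only [f] at hf
  have h1 : t0 ^ (e + 1) * c 0 (e + 1) ≤ 0 := by linarith
  have h2 : t0 ^ (e + 1) = 0 := le_antisymm (nonpos_of_mul_nonpos_left h1 h0) (by positivity)
  have h3 : t0 = 0 := (pow_eq_zero_iff (Nat.succ_ne_zero e)).1 h2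
  rw [h3, zero_pow (Nat.succ_ne_zero e), zero_mul, hP, G_zero, Nat.zero_add] at hf
  linarith

end Groth.Agent.Nef45
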