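import Groth.Agent.Nef45.Triv
import Groth.Agent.VarBase.ProjForm
import Groth.Agent.VarBase.GenPush
import Groth.Agent.VarBase.CurveDeg
import Groth.Agent.AVIdx.EulerPull
import Groth.Agent.Growth22.GenBy
import Groth.Agent.Growth22.PullAsymp
import Groth.Agent.ProjUPX.Sections
import Groth.Agent.Lib.AmpleEmbed
import Groth.Agent.AmpleX.Proj
import Groth.Agent.PnCoh.Chow.RelEmb

/-!
# Semi-ample modules: the morphism to projective space and growth of sections
-/

set_option linter.style.haveILetI false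
set_option linter.unusedSectionVars false
set_option maxHeartbeats 1000000
set_option backward.isDefEq.respectTransparency false
set_option backward.isDefEq.respectTransparency.types false

universe u

open CategoryTheory CategoryTheory.Limits AlgebraicGeometry TopologicalSpace
open Groth.Agent.HilbPoly (iterD DimLT)
open scoped Groth.Agent.H23.PicMul

attribute [local instance] HasDerivedCategory.standard

noncomputable section

namespace Groth.Agent.Nef45

open Groth.Agent

variable (k : Type u) [Field k] {X : Scheme.{u}} [X.Over (Spec (CommRingCat.of k))]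
  [IsProper (X ↘ Spec (CommRingCat.of k))] {L H G : X.Modules}

omit [X.Over (Spec (CommRingCat.of k))] [IsProper (X ↘ Spec (CommRingCat.of k))] in
/-- Global generation gives at each point a section generating there. -/
theorem exists_section_of_gg (hG : PicF.IsInvertible G) (h : Curv2.IsGloballyGenerated G) (x : X) :
    ∃ s : Coh.structureModule X ⟶ G, x ∈ CohB1.genLocus G s := by
  obtain ⟨ι, s, hs⟩ := Growth22.exists_generatedBy_of_isGloballyGenerated hG h
  obtain ⟨i, U, hx, hU⟩ := InvX.exists_frame_of_generated hG s x (hs x)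
  refine ⟨InvX.ofSect (s i), InvX.le_genLocus (U := U) _ ?_ hx⟩
  rw [InvX.one_ofSect]
  exact hU

/-- An ample module is numerically effective. -/
theorem isNef_of_isAmple (hH : CohB1.IsAmple H) : IsNef k H := fun Z i hi hZ hd =>
  (VarBase.posOn_of_isAmple k hH Z i hi hZ 1 one_pos (by rw [hd, Nat.cast_one])).le

/-- A globally generated invertible module is numerically effective. -/
theorem isNef_of_gg (hH : CohB1.IsAmple H) (hG : PicF.IsInvertible G) (h : Curv2.IsGloballyGenerated G) :
    IsNef k G := by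
  intro Z i hi hZ hdim
  haveI := hi
  haveI := hZ
  haveI := CurveCohLib.isNoetherian_of_proper (k := k) (X := X)
  obtain ⟨s, hs⟩ := exists_section_of_gg hG h (i (genericPoint Z))
  haveI := VanGrowth.mono_mulHom_push i s hs
  obtain ⟨U, hU, hξU⟩ : ∃ U : X.Opens,
      IsIso ((Scheme.Modules.restrictFunctor U.ι).map s) ∧ i (genericPoint Z) ∈ U := Opens.mem_sSup.1 hs
  haveI : IsIso ((Scheme.Modules.restrictFunctor U.ι).map s) := hU
  set M := (Coh.push i).obj (Coh.structureModule Z)
  haveI := HilbPoly.isIso_restrict_mulHom s M (U := U)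
  have hM : Coh.IsCoh M := QCoh.isCoh_push_structure i
  have hP : Coh.IsCoh (CohB1.tensorMod M G) := AmpleVan.isCoh_tensor hM (AmpleVan.isCoh_invertible hG)
  have hC : Coh.IsCoh (cokernel (HilbPoly.mulHom s M)) := QCoh.isCoh_cokernel hM.1 hP _
  have hr : Set.range i = closure {i (genericPoint Z)} := QCoh.range_eq_closure i
  have hCs : CohB1.support (cokernel (HilbPoly.mulHom s M)) ⊆ closure {i (genericPoint Z)} :=
    ((QCoh.support_of_epi hP.1 hC.1 (cokernel.π _)).trans (HilbPoly.support_tensor_subset M _)).trans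
      (hr ▸ QCoh.support_push_subset i QCoh.isQCoh_structureModule)
  have hξC : i (genericPoint Z) ∉ CohB1.support (cokernel (HilbPoly.mulHom s M)) :=
    HilbPoly.notMem_support_of_isZero_restrict (HilbPoly.isZero_restrict_cokernel U _) hξU
  have hCd : DimLT (cokernel (HilbPoly.mulHom s M)) (0 + 0 + 1) :=
    HilbPoly.dim_lt_closure (n := 1) (by rw [← hr, VarBase.dim_range, hdim, Nat.cast_one])
      (QCoh.isClosed_support_of_isFT hC.1 hC.2) hCs hξC
  have h0 := nonneg_rep k hH.1 (isNef_of_isAmple k hH) hH hC (p := 0) (q := 0) hCd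
  have hadd := (I_additive k (AllInv.replicate hG 0)).add
    (ShortComplex.mk (HilbPoly.mulHom s M) (cokernel.π _) (cokernel.condition _))
    (.mk' (ShortComplex.exact_of_g_is_cokernel _ (cokernelIsCokernel _)) inferInstance inferInstance) hM hP hC
  change Curv2.euler k X (CohB1.tensorMod M G) = Curv2.euler k X M + Curv2.euler k X (cokernel _) at hadd
  change 0 ≤ Curv2.euler k X (cokernel (HilbPoly.mulHom s M)) at h0
  show 0 ≤ Curv2.euler k X (CohB1.tensorMod M G) - Curv2.euler k X M
  linarith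

theorem isNef_of_semiample (hH : CohB1.IsAmple H) (hL : PicF.IsInvertible L)
    (hsa : ∃ μ : ℕ, 0 < μ ∧ Curv2.IsGloballyGenerated (CohB1.tensorPow L μ)) : IsNef k L := by
  obtain ⟨μ, hμ, hgg⟩ := hsa
  intro Z i hi hZ hdim
  haveI := hi
  haveI := CurveCohLib.isNoetherian_of_proper (k := k) (X := X)
  have h := isNef_of_gg k hH (InvX.isInvertible_tensorPow hL μ) hgg Z i hi hZ hdim
  rw [I_pow k hL (l := []) (by intro _ hc; simp at hc) (QCoh.isCoh_push_structure i)
    (dimLT_push k i (n := 1) (le_of_eq (by rw [hdim, Nat.cast_one])))] at h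
  exact nonneg_of_mul_nonneg_right h (by exact_mod_cast hμ)

/-- The morphism to a projective space given by generating sections. -/
theorem exists_morphism [Nonempty X] (hG : PicF.IsInvertible G) (h : Curv2.IsGloballyGenerated G) :
    ∃ (n : ℕ) (r : X ⟶ CohB1.ProjSpace n k), r ≫ CohB1.ProjSpace.toSpec n k = X ↘ Spec (CommRingCat.of k) ∧
      Nonempty ((Scheme.Modules.pullback r).obj (Twist.twist (CohB1.polyGrading n k) 1) ≅ G) := by
  classical
  haveI : CompactSpace X := QuasiCompact.compactSpace_of_compactSpace (X ↘ Spec (CommRingCat.of k))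
  choose s hs using fun x : X => exists_section_of_gg hG h x
  obtain ⟨S, hS⟩ := isCompact_univ.elim_finite_subcover
    (fun x => (CohB1.genLocus G (s x) : Set X)) (fun x => (CohB1.genLocus G (s x)).2)
    (fun x _ => Set.mem_iUnion.2 ⟨x, hs x⟩)
  have hne : S.Nonempty := by
    obtain ⟨x, hx, -⟩ := Set.mem_iUnion₂.1 (hS (Set.mem_univ (Classical.arbitrary X)))
    exact ⟨x, hx⟩
  obtain ⟨n, hn⟩ := Nat.exists_eq_add_of_le' (Finset.card_pos.2 hne)
  let e : Fin (n + 1) ≃ S := (finCongr hn.symm).trans S.equivFin.symm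
  let t : ULift.{u} (Fin (n + 1)) → Γ(G, ⊤) := fun j => InvX.one (s (e j.down))
  have ht : ProjUP.GeneratedBy G t := AVAmple.generatedBy_of_locus t fun x => by
    obtain ⟨y, hy, hxy⟩ := Set.mem_iUnion₂.1 (hS (Set.mem_univ x))
    refine ⟨⟨e.symm ⟨y, hy⟩⟩, ?_⟩
    obtain ⟨W, hxW, hW⟩ := InvX.mem_genLocus (show x ∈ CohB1.genLocus G (s y) from hxy)
    exact H23.TrivBasic.mem_locus_iff.2 ⟨W, hxW, by simpa [t] using hW⟩
  obtain ⟨r, hr, τ, -⟩ := ProjUPX.exists_map (CohB1.polyGrading n k) (X ↘ Spec (CommRingCat.of k)) hG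
    (ULift.{u} (Fin (n + 1))) (fun i => (MvPolynomial.X i.down : MvPolynomial (Fin (n + 1)) k))
    (fun i => ProjPt.X_mem i.down)
    (by rw [show Set.range (fun i : ULift.{u} (Fin (n + 1)) => (MvPolynomial.X i.down : MvPolynomial (Fin (n + 1)) k)) =
          Set.range (fun i : Fin (n + 1) => (MvPolynomial.X i : MvPolynomial (Fin (n + 1)) k)) from
            ULift.down_surjective.range_comp (fun i : Fin (n + 1) => (MvPolynomial.X i : MvPolynomial (Fin (n + 1)) k))]
        exact ProjUPX.adjoin_X)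
    (fun y => let ⟨i, hi⟩ := ProjUPX.cov_X y; ⟨⟨i⟩, hi⟩) t ht
    (fun V v l _ _ => ⟨MvPolynomial.eval₂Hom ((AModX.resR (le_top : V ≤ ⊤)).comp
        (ProjUP.toGlobal (X ↘ Spec (CommRingCat.of k)))) (fun i => v ⟨i⟩),
      fun l => MvPolynomial.eval₂Hom_X' _ _ _, fun x => MvPolynomial.eval₂Hom_C _ _ _⟩)
  exact ⟨n, r, hr, ⟨τ⟩⟩

omit [X.Over (Spec (CommRingCat.of k))] [IsProper (X ↘ Spec (CommRingCat.of k))] in
theorem isAmple_O1 (n : ℕ) : CohB1.IsAmple (Twist.twist (CohB1.polyGrading n k) 1) := by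
  classical
  refine AmpleX.isAmple_twist_one (CohB1.polyGrading n k)
    (Finset.univ.image fun i : Fin (n + 1) => (MvPolynomial.X i : MvPolynomial (Fin (n + 1)) k))
    (fun f hf => by
      obtain ⟨i, -, rfl⟩ := Finset.mem_image.1 hf
      exact ProjPt.X_mem i) ?_
  refine top_le_iff.1 ((AmpleEmbed.iSup_basicOpen_X n k).ge.trans (iSup_le fun j => ?_))
  exact le_iSup_of_le ⟨_, Finset.mem_image_of_mem _ (Finset.mem_univ j)⟩ le_rfl

/-- Higher direct images live over the image. -/
theorem support_Rpush_subset {V P : Scheme.{u}} [HasInjectiveResolutions V.Modules] (q : V ⟶ P) [IsProper q]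
    {T : Set P} (hT : IsClosed T) (hr : Set.range q ⊆ T) {F : V.Modules} (hF : Coh.IsQCoh F) :
    ∀ p, CohB1.support ((Coh.Rpush q p).obj F) ⊆ T
  | 0 => by
    haveI := SpObjSS.enoughInjectives_of_hasInjectiveResolutions (C := V.Modules)
    haveI := QCoh.preservesFiniteLimits_push q
    have e0 : (Coh.Rpush q 0).obj F ≅ (Coh.push q).obj F :=
      (Scheme.Modules.pushforward q).rightDerivedZeroIsoSelf.app _
    refine le_of_eq_of_le ?_ (AVIdx.support_push_subset_closed q hF hT hr)
    exact QCoh.support_iso e0.symm (QCoh.isQCoh_pushforward q hF) |>.symm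
  | p + 1 => fun y hy => by
    by_contra hyT
    let U : P.Opens := ⟨Tᶜ, hT.isOpen_compl⟩
    haveI : IsProper (q ∣_ U) := inferInstance
    haveI : IsFinite (q ∣_ U) := VarBase.isFinite_of_fibres _ fun z => by
      refine (Set.finite_empty).subset fun w _ => ?_
      exact (show q ((q ⁻¹ᵁ U).ι w) ∉ T from w.2) (hr ⟨_, rfl⟩)
    exact hy (VarBase.subsingleton_stalk_Rpush q (show y ∈ U from hyT) hF p)

/-- Growth of sections from a non-vanishing symbol of a globally generated module. -/
theorem exists_growth_of_gg [Nonempty X] (hG : PicF.IsInvertible G) (h : Curv2.IsGloballyGenerated G) {m : ℕ}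
    (hm : ¬ Triv k G m) :
    ∃ K a : ℕ, 0 < K ∧ 0 < a ∧ ∀ μ : ℕ, 1 ≤ μ → μ ^ m ≤ a * VanGrowth.h0 k (CohB1.tensorPow G (K * μ)) := by
  obtain ⟨n, Φ, hΦ, ⟨τ⟩⟩ := exists_morphism k hG h
  letI : (CohB1.ProjSpace n k).Over (Spec (CommRingCat.of k)) := ⟨CohB1.ProjSpace.toSpec n k⟩
  haveI : IsProper (CohB1.ProjSpace n k ↘ Spec (CommRingCat.of k)) := PnCoh.Chow.isProper_toSpec n k
  haveI := CurveCohLib.isNoetherian_of_proper (k := k) (X := CohB1.ProjSpace n k)
  haveI := CurveCohLib.isNoetherian_of_proper (k := k) (X := X)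
  haveI : IsProper Φ := VarBase.isProper_over k Φ hΦ
  let O1 : (CohB1.ProjSpace n k).Modules := Twist.twist (CohB1.polyGrading n k) 1
  have hO1 : CohB1.IsAmple O1 := isAmple_O1 k n
  set F := (Coh.push Φ).obj (Coh.structureModule X)
  have hF : Coh.IsCoh F := ExistEasy.isCoh_pushforward_proper Φ QCoh.isCoh_structureModule'
  have hTc : IsClosed (CohB1.support F) := QCoh.isClosed_support_of_isFT hF.1 hF.2
  have hTr : Set.range Φ ⊆ CohB1.support F := by
    rintro _ ⟨z, rfl⟩
    exact AVIdx.mem_support_push_structure Φ z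
  have hm_le : ¬ DimLT F m := by
    intro hlt
    refine hm fun V i hi hV hd => ?_
    haveI := hi
    letI : V.Over (Spec (CommRingCat.of k)) := ⟨i ≫ (X ↘ Spec (CommRingCat.of k))⟩
    haveI : IsProper (V ↘ Spec (CommRingCat.of k)) := VarBase.isProper_sub i k
    haveI := CurveCohLib.isNoetherian_of_proper (k := k) (X := V)
    haveI : EnoughInjectives V.Modules := inferInstance
    haveI : HasInjectiveResolutions V.Modules := inferInstance
    let Ψ : V ⟶ CohB1.ProjSpace n k := i ≫ Φ
    have hΨ : Ψ ≫ (CohB1.ProjSpace n k ↘ Spec (CommRingCat.of k)) = V ↘ Spec (CommRingCat.of k) :=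
      (Category.assoc _ _ _).trans (congrArg (i ≫ ·) hΦ)
    haveI : IsProper Ψ := VarBase.isProper_over k Ψ hΨ
    have hVc : Coh.IsCoh (Coh.structureModule V) := QCoh.isCoh_structureModule'
    have hiG : (Scheme.Modules.pullback Ψ).obj O1 ≅ (Scheme.Modules.pullback i).obj G :=
      ((Scheme.Modules.pullbackComp i Φ).app O1).symm ≪≫ (Scheme.Modules.pullback i).mapIso τ
    rw [I_push k i rfl (AllInv.replicate hG m) hVc, List.map_replicate]
    have e := VarBase.iterD_pullback_eq_rpushSum k Ψ hΨ (List.replicate m O1) (AllInv.replicate hO1.1 m)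
      (Coh.structureModule V) hVc
    rw [List.map_replicate] at e
    rw [show I k (List.replicate m ((Scheme.Modules.pullback i).obj G)) (Coh.structureModule V) =
        I k (List.replicate m ((Scheme.Modules.pullback Ψ).obj O1)) (Coh.structureModule V) from
      IntNum47.iterD_congr (IntNum47.isoInv_euler k) (List.forall₂_iff_get.2
        ⟨by simp, fun j h₁ h₂ => by simpa using (⟨hiG.symm⟩ : Nonempty _)⟩) _]
    refine e.trans (finsum_eq_zero_of_forall_eq_zero fun q => ?_)
    have hz : iterD (List.replicate m O1) (Curv2.euler k (CohB1.ProjSpace n k))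
        ((Coh.Rpush Ψ q).obj (Coh.structureModule V)) = 0 :=
      I_eq_zero k (AllInv.replicate hO1.1 m) (VarBase.isCoh_Rpush Ψ hVc q) (by
        rw [List.length_replicate]
        exact HilbPoly.dimLT_of_subset (support_Rpush_subset Ψ hTc
          ((Set.range_comp_subset_range i Φ).trans hTr) hVc.1 q) hlt)
    rw [hz, mul_zero]
  obtain ⟨D, hD⟩ := VarBase.exists_dim_le (X := CohB1.ProjSpace n k) k
  obtain ⟨d, hd⟩ : ∃ d : ℕ, topologicalKrullDim ↥(CohB1.support F) = (d : WithBot ℕ∞) := by
    have h0 : (0 : WithBot ℕ∞) ≤ topologicalKrullDim ↥(CohB1.support F) :=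
      VarBase.dim_nonneg_of_nonempty ⟨_, hTr ⟨Classical.arbitrary X, rfl⟩⟩
    have h1 := (topologicalKrullDim_subspace_le _ (CohB1.support F)).trans hD
    revert h0 h1
    generalize topologicalKrullDim ↥(CohB1.support F) = a
    intro h0 h1
    cases a with
    | bot => simp at h0
    | coe a =>
      rw [← WithBot.coe_natCast, WithBot.coe_le_coe] at h1
      obtain ⟨c, rfl⟩ := ENat.ne_top_iff_exists.1 (ne_top_of_le_ne_top (ENat.natCast_ne_top D) h1)
      exact ⟨c, rfl⟩
  have hmd : m ≤ d := by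
    by_contra hlt
    exact hm_le (by rw [DimLT, hd]; exact_mod_cast not_le.1 hlt)
  obtain ⟨P, m₀, hdeg, hα, hP⟩ := VanGrowth.exists_h0_poly k hO1 hF hd.le
  have hmult := (HilbPoly.mult_nonneg_and_pos k hO1 d _ hF hd.le).2 hd
  have hc : 0 < P.coeff d := by
    have h : (0 : ℚ) < StabCat.alpha d P := by rw [hα]; exact_mod_cast hmult
    exact pos_of_mul_pos_right h (Nat.cast_nonneg _)
  obtain ⟨K₀, hK₀, hlow⟩ := VanGrowth.exists_poly_lower P hdeg hc
  refine ⟨K₀ + m₀, ⌈2 / P.coeff d⌉₊, by omega, Nat.ceil_pos.2 (by positivity), fun μ hμ => ?_⟩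
  have hle : K₀ + m₀ ≤ (K₀ + m₀) * μ := Nat.le_mul_of_pos_right _ hμ
  set x := (K₀ + m₀) * μ with hx
  have e0 : VanGrowth.h0 k (HilbPoly.pw O1 F x) = VanGrowth.h0 k (CohB1.tensorPow G x) := by
    have h1 := Growth22.h_pullback_twist_zero k Φ hΦ (Coh.structureModule X) hO1.1 x
    refine h1.symm.trans ?_
    refine HilbPoly.finrank_HH_iso k (H23.PicMul.cl_eq_iff.1 ?_).some 0
    rw [H23.PicMul.cl_tensor, H23.PicMul.cl_tensorPow, H23.PicMul.cl_tensorPow, ← H23.PicMul.one_def, one_mul,
      H23.PicMul.cl_eq_iff.2 ⟨τ⟩]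
  have h1 : P.coeff d / 2 * (x : ℚ) ^ d ≤ (VanGrowth.h0 k (CohB1.tensorPow G x) : ℚ) := by
    refine (hlow _ (by omega)).trans_eq ?_
    rw [← hP _ (by omega), e0]
  have h2 : (μ : ℚ) ^ m ≤ (x : ℚ) ^ d := by
    have : μ ^ m ≤ x ^ d :=
      (Nat.pow_le_pow_left (Nat.le_mul_of_pos_left μ (by omega)) m).trans (Nat.pow_le_pow_right (by omega) hmd)
    exact_mod_cast this
  have h3 : (μ : ℚ) ^ m ≤ 2 / P.coeff d * (VanGrowth.h0 k (CohB1.tensorPow G x) : ℚ) := by
    rw [div_mul_eq_mul_div, le_div_iff₀ hc]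
    have := mul_le_mul_of_nonneg_left h2 hc.le
    nlinarith
  rw [← Nat.cast_le (α := ℚ)]
  push_cast
  exact h3.trans (mul_le_mul_of_nonneg_right (Nat.le_ceil _) (Nat.cast_nonneg _))

/-- Numerical triviality passes to powers. -/
theorem triv_of_triv_pow (hL : PicF.IsInvertible L) {μ m : ℕ} (hμ : 0 < μ)
    (h : Triv k (CohB1.tensorPow L μ) m) : Triv k L m := by
  intro V i hi hV hd
  haveI := hi
  haveI := CurveCohLib.isNoetherian_of_proper (k := k) (X := X)
  have hF : Coh.IsCoh ((Coh.push i).obj (Coh.structureModule V)) := QCoh.isCoh_push_structure i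
  have hFd := dimLT_push k i hd.le
  have key : ∀ j l, AllInv l → j + List.length l = m →
      I k (List.replicate j (CohB1.tensorPow L μ) ++ l) ((Coh.push i).obj (Coh.structureModule V)) =
        (μ : ℤ) ^ j * I k (List.replicate j L ++ l) ((Coh.push i).obj (Coh.structureModule V)) := by
    intro j
    induction j with
    | zero => intro l _ _; simp
    | succ j ih =>
      intro l hl hlen
      have hμi := InvX.isInvertible_tensorPow hL μ
      rw [I_perm k (show (List.replicate (j + 1) (CohB1.tensorPow L μ) ++ l).Perm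
          (List.replicate j (CohB1.tensorPow L μ) ++ CohB1.tensorPow L μ :: l) from List.perm_middle.symm),
        ih _ (AllInv.cons hμi hl) (by simp; omega), I_perm k List.perm_middle,
        I_pow k hL ((AllInv.replicate hL j).append hl) hF
          (lt_of_lt_of_le hFd (Nat.cast_le.2 (by simp; omega))),
        show L :: (List.replicate j L ++ l) = List.replicate (j + 1) L ++ l from rfl]
      ring
  have h1 := key m [] (by intro _ hc; simp at hc) (by simp)
  rw [List.append_nil, List.append_nil, h V i hi hV hd] at h1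
  rcases mul_eq_zero.1 h1.symm with h2 | h2
  · exact absurd h2 (pow_ne_zero _ (by exact_mod_cast hμ.ne'))
  · exact h2

end Groth.Agent.Nef45
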