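import Groth.Agent.Nef45.Basic
import Groth.Agent.Nef45.Poly

/-!
# The table `L^p H^q` and the expansion of powers of `bL + aH`
-/

set_option linter.style.haveILetI false
set_option linter.unusedSectionVars false
set_option backward.isDefEq.respectTransparency false
set_option backward.isDefEq.respectTransparency.types false

universe u

open CategoryTheory CategoryTheory.Limits AlgebraicGeometry TopologicalSpace
open Groth.Agent.HilbPoly (iterD DimLT)

attribute [local instance] HasDerivedCategory.standard

noncomputable section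

namespace Groth.Agent.Nef45

open Groth.Agent

variable (k : Type u) [Field k] {X : Scheme.{u}} [X.Over (Spec (CommRingCat.of k))]
  [IsProper (X ↘ Spec (CommRingCat.of k))]

/-- `p` copies of `L` and `q` copies of `H`. -/
abbrev rep {X : Scheme.{u}} (L H : X.Modules) (p q : ℕ) : List X.Modules :=
  List.replicate p L ++ List.replicate q H

/-- `L^b ⊗ H^a`. -/
abbrev comb {X : Scheme.{u}} (L H : X.Modules) (a b : ℕ) : X.Modules :=
  CohB1.tensorMod (CohB1.tensorPow L b) (CohB1.tensorPow H a)

/-- The values `L^p H^q · F` as reals. -/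
abbrev tab (L H F : X.Modules) (p q : ℕ) : ℝ := (I k (rep L H p q) F : ℝ)

variable {L H : X.Modules}

omit [X.Over (Spec (CommRingCat.of k))] [IsProper (X ↘ Spec (CommRingCat.of k))] in
theorem allInv_rep (hL : PicF.IsInvertible L) (hH : PicF.IsInvertible H) (p q : ℕ) : AllInv (rep L H p q) :=
  (AllInv.replicate hL p).append (AllInv.replicate hH q)

omit [X.Over (Spec (CommRingCat.of k))] [IsProper (X ↘ Spec (CommRingCat.of k))] in
theorem length_rep (L H : X.Modules) (p q : ℕ) : (rep L H p q).length = p + q := by simp

omit [X.Over (Spec (CommRingCat.of k))] [IsProper (X ↘ Spec (CommRingCat.of k))] in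
theorem isInvertible_comb (hL : PicF.IsInvertible L) (hH : PicF.IsInvertible H) (a b : ℕ) :
    PicF.IsInvertible (comb L H a b) :=
  InvX.isInvertible_tensorMod (InvX.isInvertible_tensorPow hL b) (InvX.isInvertible_tensorPow hH a)

theorem I_cons_L (l : List X.Modules) (p q : ℕ) (F : X.Modules) :
    I k (L :: (l ++ rep L H p q)) F = I k (l ++ rep L H (p + 1) q) F :=
  I_perm k List.perm_middle.symm F

theorem I_cons_H (l : List X.Modules) (p q : ℕ) (F : X.Modules) :
    I k (H :: (l ++ rep L H p q)) F = I k (l ++ rep L H p (q + 1)) F :=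
  I_perm k (List.perm_middle.symm.trans (List.Perm.append_left l List.perm_middle.symm)) F

theorem I_rep_succ_right (p q : ℕ) (F : X.Modules) :
    I k (H :: rep L H p q) F = I k (rep L H p (q + 1)) F :=
  I_cons_H k [] p q F

/-- Expansion of the powers of `bL + aH`. -/
theorem expand (hL : PicF.IsInvertible L) (hH : PicF.IsInvertible H) {F : X.Modules} (hF : Coh.IsCoh F)
    (a : ℕ) {b : ℕ} (hb : 0 < b) : ∀ m p q, DimLT F (m + p + q + 1) →
    (I k (List.replicate m (comb L H a b) ++ rep L H p q) F : ℝ) =
      (b : ℝ) ^ m * G (tab k L H F) m p q ((a : ℝ) / b)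
  | 0, p, q, _ => by simp [G]
  | m + 1, p, q, hd => by
    set M := comb L H a b with hM
    set l := List.replicate m M ++ rep L H p q with hl
    have hMi := isInvertible_comb hL hH a b
    have hli : AllInv l := (AllInv.replicate hMi m).append (allInv_rep hL hH p q)
    have hlen : l.length = m + p + q := by simp [hl]; omega
    have hd' : DimLT F (l.length + 2) := by
      rw [hlen]
      rwa [show m + p + q + 2 = m + 1 + p + q + 1 by omega]
    have h0 : I k (List.replicate (m + 1) M ++ rep L H p q) F = I k (M :: l) F := rfl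
    rw [h0, hM, comb, I_tensor k (InvX.isInvertible_tensorPow hL b) (InvX.isInvertible_tensorPow hH a) hli hF hd',
      I_pow k hL hli hF hd', I_pow k hH hli hF hd', hl, I_cons_L, I_cons_H]
    push_cast
    rw [expand hL hH hF a hb m (p + 1) q (by rwa [show m + (p + 1) + q + 1 = m + 1 + p + q + 1 by omega]),
      expand hL hH hF a hb m p (q + 1) (by rwa [show m + p + (q + 1) + 1 = m + 1 + p + q + 1 by omega])]
    have hb' : (b : ℝ) ≠ 0 := by exact_mod_cast hb.ne'
    show _ = (b : ℝ) ^ (m + 1) * (G _ m (p + 1) q _ + (a : ℝ) / b * G _ m p (q + 1) _)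
    field_simp
    ring

theorem map_rep {Z : Scheme.{u}} (i : Z ⟶ X) (L H : X.Modules) (p q : ℕ) :
    (rep L H p q).map (Scheme.Modules.pullback i).obj =
      rep ((Scheme.Modules.pullback i).obj L) ((Scheme.Modules.pullback i).obj H) p q := by
  rw [List.map_append, List.map_replicate, List.map_replicate]

end Groth.Agent.Nef45
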