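import Groth.Agent.Nef45.Facts
import Groth.Agent.VanGrowth.Big

/-!
# Numerical triviality of a power and the growth of sections
-/

set_option linter.style.haveILetI false
set_option linter.unusedSectionVars false
set_option backward.isDefEq.respectTransparency false
set_option backward.isDefEq.respectTransparency.types false

universe u

open CategoryTheory CategoryTheory.Limits AlgebraicGeometry TopologicalSpace
open Groth.Agent.HilbPoly (iterD DimLT)
open scoped Groth.Agent.H23.PicMul

attribute [local instance] HasDerivedCategory.standard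

noncomputable section

namespace Groth.Agent.Nef45

open Groth.Agent

variable (k : Type u) [Field k] {X : Scheme.{u}} [X.Over (Spec (CommRingCat.of k))]
  [IsProper (X ↘ Spec (CommRingCat.of k))] {L : X.Modules}

/-- `L^m` is numerically trivial. -/
def Triv (L : X.Modules) (m : ℕ) : Prop :=
  ∀ (V : Scheme.{u}) (i : V ⟶ X), IsClosedImmersion i → IsIntegral V → topologicalKrullDim V = (m : ℕ) →
    I k (List.replicate m L) ((Coh.push i).obj (Coh.structureModule V)) = 0

theorem zero_of_integral {l : List X.Modules} (hl : AllInv l)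
    (h : ∀ (Z : Scheme.{u}) (i : Z ⟶ X), IsClosedImmersion i → IsIntegral Z →
      topologicalKrullDim Z = (l.length : WithBot ℕ∞) → I k l ((Coh.push i).obj (Coh.structureModule Z)) = 0)
    {F : X.Modules} (hF : Coh.IsCoh F) (hd : DimLT F (l.length + 1)) : I k l F = 0 := by
  haveI := CurveCohLib.isNoetherian_of_proper (k := k) (X := X)
  have hA := I_additive k hl
  rw [VarBase.eq_compSum (I k l) hA.iso l.length hA.add (fun M hM hMd => I_eq_zero k hl hM hMd) hF
    (HilbPoly.le_of_lt_succ hd)]
  refine finsum_eq_zero_of_forall_eq_zero fun ξ => ?_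
  split_ifs with hξ
  · haveI := SurfInt.isIntegral_clIdeal ξ
    obtain ⟨e⟩ : Nonempty (ClSub.quotMod (VarBase.clIdeal ξ) ≅
        (Coh.push (VarBase.clIdeal ξ).subschemeι).obj (Coh.structureModule (VarBase.clIdeal ξ).subscheme)) := by
      have h := SurfInt.nonempty_quotMod_ker (VarBase.clIdeal ξ).subschemeι
      rwa [Scheme.IdealSheafData.ker_subschemeι] at h
    rw [I_congr_module k e, h _ _ inferInstance inferInstance
      (by rw [← hξ, ← VarBase.dim_range (VarBase.clIdeal ξ).subschemeι, VarBase.range_clIdeal]), smul_zero]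
  · rfl

/-- All symbols containing a numerically trivial power vanish. -/
theorem zero_of_triv (hL : PicF.IsInvertible L) {m : ℕ} (hm : Triv k L m) :
    ∀ (l : List X.Modules), AllInv l → ∀ F : X.Modules, Coh.IsCoh F → DimLT F (l.length + m + 1) →
      I k (l ++ List.replicate m L) F = 0 := by
  haveI := CurveCohLib.isNoetherian_of_proper (k := k) (X := X)
  intro l
  induction l with
  | nil =>
    intro _ F hF hd
    exact zero_of_integral k (AllInv.replicate hL m) (fun Z i hi hZ hdim => hm Z i hi hZ (by simpa using hdim)) hF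
      (by simpa using hd)
  | cons A l ih =>
    intro hl F hF hd
    have hA := hl A List.mem_cons_self
    have hl' : AllInv l := fun B hB => hl B (List.mem_cons_of_mem _ hB)
    have hG := I_additive k (hl'.append (AllInv.replicate hL m))
    have hA2 := I_additive k (hl.append (AllInv.replicate hL m))
    refine QCoh.devissage (fun M => I k (A :: l ++ List.replicate m L) M = 0)
      (fun M M' e h => (hA2.iso M M' e).symm.trans h) (fun M hM => hA2.zero_of_isZero hM)
      (CohB1.support F) (fun S hS h₁ h₂ h₃ _ e₁ e₃ => by rw [hA2.add S hS h₁ h₂ h₃, e₁, e₃, add_zero])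
      (fun ξ hξ _ Z i _ _ hr => ?_)
      (fun S hS h₁ h₂ h₃ _ e₂ e₃ => by
        have := hA2.add S hS h₁ h₂ h₃
        rw [e₂, e₃, add_zero] at this
        exact this.symm) hF subset_rfl
    obtain ⟨C₁, C₂, hC₁, hC₂, hs₁, hx₁, hs₂, hx₂, hC⟩ := HilbPoly.exists_step i hr hA
    have hcl : topologicalKrullDim ↥(closure ({ξ} : Set X)) ≤ ((l.length + m + 1 : ℕ) : WithBot ℕ∞) :=
      HilbPoly.le_of_lt_succ ((H23.TopDim.dim_le_dim_of_subset hξ).trans_lt
        (by simpa [show l.length + 1 + m + 1 = l.length + m + 1 + 1 by omega] using hd))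
    have h1 := ih hl' C₁ hC₁ (HilbPoly.dim_lt_closure hcl (QCoh.isClosed_support_of_isFT hC₁.1 hC₁.2) hs₁ hx₁)
    have h2 := ih hl' C₂ hC₂ (HilbPoly.dim_lt_closure hcl (QCoh.isClosed_support_of_isFT hC₂.1 hC₂.2) hs₂ hx₂)
    have h3 := hC _ hG
    rw [h1, h2, add_zero, add_zero] at h3
    exact sub_eq_zero.2 h3

/-- With vanishing top self-intersection no power receives an ample module. -/
theorem no_mono [IsIntegral X] (hL : PicF.IsInvertible L) (hnef : IsNef k L) {n : ℕ}
    (hn : topologicalKrullDim X = (n : WithBot ℕ∞))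
    (h0 : I k (List.replicate n L) (Coh.structureModule X) = 0) {A : X.Modules} (hA : CohB1.IsAmple A)
    {j : ℕ} (φ : A ⟶ CohB1.tensorPow L j) [Mono φ] : False := by
  haveI := CurveCohLib.isNoetherian_of_proper (k := k) (X := X)
  suffices H : ∀ q p : ℕ, p + q = n → I k (rep L A p q) (Coh.structureModule X) = 0 by
    have h := H n 0 (Nat.zero_add n)
    simp only [rep, List.replicate_zero, List.nil_append] at h
    exact (ample_top_pos k hn hA).ne' h
  intro q
  induction q with
  | zero =>
    intro p hp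
    obtain rfl : p = n := by omega
    simpa [rep] using h0
  | succ q ih =>
    intro p hp
    have hli := allInv_rep hL hA.1 p q
    have hlen := length_rep L A p q
    have hO := dimLT_top hn.le (Coh.structureModule X)
    have hle := mono_le k hli (by rw [hlen, show p + q + 1 = n by omega, hn])
      (fun C hC hCd => by rw [hlen] at hCd; exact nonneg_rep k hL hnef hA hC hCd) hA.1
      (InvX.isInvertible_tensorPow hL j) φ
    have hz : I k (L :: rep L A p q) (Coh.structureModule X) = 0 := ih (p + 1) (by omega)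
    rw [I_rep_succ_right, I_pow k hL hli QCoh.isCoh_structureModule'
      (by rw [hlen, show p + q + 2 = n + 1 by omega]; exact hO), hz, mul_zero] at hle
    exact le_antisymm hle
      (nonneg_rep k hL hnef hA QCoh.isCoh_structureModule' (by rw [show p + (q + 1) + 1 = n + 1 by omega]; exact hO))

variable {H : X.Modules}

/-- The structure sheaf of an integral closed subscheme. -/
theorem h0_twist_eq_zero (hL : PicF.IsInvertible L) (hnef : IsNef k L) {m : ℕ} (hm : Triv k L m)
    {Z : Scheme.{u}} (i : Z ⟶ X) [IsClosedImmersion i] [IsIntegral Z] {d : ℕ}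
    (hd : topologicalKrullDim Z = (d : WithBot ℕ∞)) (hmd : m ≤ d) {A D : X.Modules} (hA : CohB1.IsAmple A)
    (hD : PicF.IsInvertible D) (hAD : PicF.cl A * PicF.cl D = 1) (j : ℕ) :
    VanGrowth.h0 k (CohB1.tensorMod ((Coh.push i).obj (Coh.structureModule Z))
      (CohB1.tensorMod D (CohB1.tensorPow L j))) = 0 := by
  letI : Z.Over (Spec (CommRingCat.of k)) := ⟨i ≫ (X ↘ Spec (CommRingCat.of k))⟩
  haveI : IsProper (Z ↘ Spec (CommRingCat.of k)) := VarBase.isProper_sub i k
  haveI := CurveCohLib.isNoetherian_of_proper (k := k) (X := X)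
  haveI := CurveCohLib.isNoetherian_of_proper (k := k) (X := Z)
  haveI : CompactSpace X := QuasiCompact.compactSpace_of_compactSpace (X ↘ Spec (CommRingCat.of k))
  haveI : CompactSpace Z := i.isClosedEmbedding.compactSpace
  let T := (Scheme.Modules.pullback i).obj
  have hTD := PicClLib.isInvertible_pullback i hD
  have hTL := PicClLib.isInvertible_pullback i hL
  have hTA : CohB1.IsAmple (T A) :=
    AmpleVan.isAmple_pullback_of_isEmbedding i i.isClosedEmbedding.isEmbedding hA
  have hN := InvX.isInvertible_tensorMod hD (InvX.isInvertible_tensorPow hL j)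
  have hcl : ∀ M : X.Modules, PicF.cl ((Scheme.Modules.pullback i).obj M) = PicF.pullCl i (PicF.cl M) :=
    fun M => rfl
  obtain ⟨e₁⟩ := IntNum47.nonempty_projIso i hN (Coh.structureModule Z)
  obtain ⟨e₂⟩ := H23.PicMul.cl_eq_iff.1 (show
      PicF.cl ((AmpleVan.tw (T (CohB1.tensorMod D (CohB1.tensorPow L j)))).obj (Coh.structureModule Z)) =
        PicF.cl (CohB1.tensorMod (T D) (CohB1.tensorPow (T L) j)) by
    show PicF.cl (CohB1.tensorMod _ _) = _
    simp only [T, hcl, H23.PicMul.cl_tensor, H23.PicMul.cl_tensorPow, H23.PicMul.pullCl_mul, H23.PicMul.pullCl_pow,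
      ← H23.PicMul.one_def, one_mul])
  have hq : Coh.IsQCoh (CohB1.tensorMod (T D) (CohB1.tensorPow (T L) j)) :=
    (AmpleVan.isCoh_invertible (InvX.isInvertible_tensorMod hTD (InvX.isInvertible_tensorPow hTL j))).1
  obtain ⟨e₃⟩ := PnCoh.exists_linearEquiv_push k i rfl hq 0
  have key : VanGrowth.h0 k (CohB1.tensorMod ((Coh.push i).obj (Coh.structureModule Z))
      (CohB1.tensorMod D (CohB1.tensorPow L j))) =
      VanGrowth.h0 k (CohB1.tensorMod (T D) (CohB1.tensorPow (T L) j)) := by
    refine (HilbPoly.finrank_HH_iso k (e₁ ≪≫ (Scheme.Modules.pushforward i).mapIso e₂) 0).trans ?_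
    exact e₃.finrank_eq.symm
  rw [key]
  by_contra h0
  have h1 : PicF.cl (T A) * PicF.cl (T D) = 1 := by
    rw [hcl, hcl, ← H23.PicMul.pullCl_mul, hAD, H23.PicMul.pullCl_one]
  obtain ⟨φ, hφ⟩ := VanGrowth.exists_mono_of_h0_pos k hTA.1 (InvX.isInvertible_tensorPow hTL j) hTD h1
    (Nat.pos_of_ne_zero h0)
  haveI := hφ
  refine no_mono k hTL (hnef.pullback k hL i rfl) hd ?_ hTA φ
  have h2 := zero_of_triv k hL hm (List.replicate (d - m) L) (AllInv.replicate hL _) _
    (QCoh.isCoh_push_structure i)
    (by rw [List.length_replicate, show d - m + m + 1 = d + 1 by omega]; exact dimLT_push k i hd.le)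
  rw [← List.replicate_add, show d - m + m = d by omega, I_push k i rfl (AllInv.replicate hL d)
    QCoh.isCoh_structureModule', List.map_replicate] at h2
  exact h2

/-- If `L^(m+1)` is numerically trivial, sections of twists by `L^j` grow at most like `j^m`. -/
theorem hasBound_of_triv (hH : CohB1.IsAmple H) (hL : PicF.IsInvertible L) (hnef : IsNef k L) {m : ℕ}
    (hm : Triv k L (m + 1)) : ∀ (d : ℕ) (F : X.Modules), Coh.IsCoh F →
      topologicalKrullDim ↥(CohB1.support F) ≤ (d : WithBot ℕ∞) → VanGrowth.HasBound k L m F := by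
  haveI := CurveCohLib.isNoetherian_of_proper (k := k) (X := X)
  intro d
  induction d with
  | zero =>
    intro F hF hd
    exact VanGrowth.hasBound_of_dim_le k hH hL hF (hd.trans (Nat.cast_le.2 (Nat.zero_le m)))
  | succ d ihd =>
    rcases Nat.lt_or_ge d m with hdm | hdm
    · intro F hF hd
      exact VanGrowth.hasBound_of_dim_le k hH hL hF (hd.trans (Nat.cast_le.2 hdm))
    intro F hF hd
    have hcoh : ∀ {G : X.Modules}, Coh.IsCoh G → ∀ j, Coh.IsCoh (HilbPoly.pw L G j) :=
      fun h j => HilbPoly.isCoh_pw hL h j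
    have hmap : ∀ {S : ShortComplex X.Modules}, S.ShortExact → ∀ j,
        (S.map (AmpleVan.tw (CohB1.tensorPow L j))).ShortExact := fun hS j => by
      haveI := AmpleVan.isEquivalence_tw (InvX.isInvertible_tensorPow hL j)
      haveI : (AmpleVan.tw (CohB1.tensorPow L j)).Additive :=
        Functor.additive_of_preserves_binary_products _
      exact hS.map_of_exact _
    refine QCoh.devissage (VanGrowth.HasBound k L m) ?_ ?_ (CohB1.support F) ?_ ?_ ?_ hF subset_rfl
    · rintro M N ⟨e⟩ ⟨C, hC⟩
      exact ⟨C, fun j => (HilbPoly.finrank_HH_iso k ((AmpleVan.tw (CohB1.tensorPow L j)).mapIso e) 0).symm.le.trans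
        (hC j)⟩
    · intro M hM
      refine ⟨0, fun j => ?_⟩
      haveI := AmpleVan.isEquivalence_tw (InvX.isInvertible_tensorPow hL j)
      exact le_of_eq_of_le (CurveCohLib.finrank_HH_zero_eq_zero_of_isZero
        ((AmpleVan.tw (CohB1.tensorPow L j)).map_isZero hM)) (Nat.zero_le _)
    · rintro S hS h₁ h₂ h₃ - ⟨C₁, hC₁⟩ ⟨C₃, hC₃⟩
      refine ⟨C₁ + C₃, fun j => ?_⟩
      have h := (VanGrowth.h0_le_add k (hmap hS j) (hcoh h₁ j) (hcoh h₂ j) (hcoh h₃ j)).2
      exact (h.trans (add_le_add (hC₁ j) (hC₃ j))).trans_eq (add_mul _ _ _).symm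
    · intro ξ hξ _ Z i _ _ hr
      set M := (Coh.push i).obj (Coh.structureModule Z)
      have hM : Coh.IsCoh M := QCoh.isCoh_push_structure i
      have hMs : CohB1.support M ⊆ closure {ξ} := hr ▸ QCoh.support_push_subset i QCoh.isQCoh_structureModule
      have hcl : topologicalKrullDim ↥(closure ({ξ} : Set X)) ≤ ((d + 1 : ℕ) : WithBot ℕ∞) :=
        (H23.TopDim.dim_le_dim_of_subset hξ).trans hd
      rcases hcl.lt_or_eq with hlt | heq
      · exact ihd M hM ((H23.TopDim.dim_le_dim_of_subset hMs).trans (HilbPoly.le_of_lt_succ hlt))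
      have hξZ : i (genericPoint Z) = ξ :=
        ((show Specializes (i (genericPoint Z)) ξ from specializes_iff_mem_closure.2
          ((QCoh.range_eq_closure i).le (hr.ge (subset_closure rfl)))).antisymm
        (specializes_iff_mem_closure.2 (hr.le ⟨_, rfl⟩))).eq
      obtain ⟨a, ha, s, hs, -⟩ := (AmpleX.isAmple_iff.1 hH).2.2 ξ
      let A := CohB1.tensorPow H a
      have hA : CohB1.IsAmple A := AmpleX.isAmple_tensorPow hH ha
      obtain ⟨D, hD, hu⟩ := H23.PicInv.exists_inverse hA.1
      have hAD : PicF.cl A * PicF.cl D = 1 := by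
        rw [← H23.PicMul.cl_tensor, H23.PicMul.one_def]; exact H23.PicMul.cl_eq_iff.2 hu
      obtain ⟨U, hU, hξU⟩ : ∃ U : X.Opens,
          IsIso ((Scheme.Modules.restrictFunctor U.ι).map s) ∧ ξ ∈ U := Opens.mem_sSup.1 hs
      haveI : IsIso ((Scheme.Modules.restrictFunctor U.ι).map s) := hU
      haveI := VanGrowth.mono_mulHom_push i s (hξZ ▸ hs)
      haveI := HilbPoly.isIso_restrict_mulHom s M (U := U)
      have hP : Coh.IsCoh (CohB1.tensorMod M A) := AmpleVan.isCoh_tensor hM (AmpleVan.isCoh_invertible hA.1)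
      set C := cokernel (HilbPoly.mulHom s M) with hCdef
      have hC : Coh.IsCoh C := QCoh.isCoh_cokernel hM.1 hP _
      have hCs : CohB1.support C ⊆ closure {ξ} :=
        ((QCoh.support_of_epi hP.1 hC.1 (cokernel.π _)).trans (HilbPoly.support_tensor_subset M _)).trans hMs
      have hξC : ξ ∉ CohB1.support C :=
        HilbPoly.notMem_support_of_isZero_restrict (HilbPoly.isZero_restrict_cokernel U _) hξU
      have hCD : Coh.IsCoh (CohB1.tensorMod C D) := AmpleVan.isCoh_tensor hC (AmpleVan.isCoh_invertible hD)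
      have hCDd : topologicalKrullDim ↥(CohB1.support (CohB1.tensorMod C D)) ≤ (d : WithBot ℕ∞) :=
        HilbPoly.le_of_lt_succ (lt_of_le_of_lt
          (H23.TopDim.dim_le_dim_of_subset (HilbPoly.support_tensor_subset C D))
          (HilbPoly.dim_lt_closure hcl (QCoh.isClosed_support_of_isFT hC.1 hC.2) hCs hξC))
      obtain ⟨K, hK⟩ := ihd _ hCD hCDd
      refine ⟨K, fun j => ?_⟩
      haveI := AmpleVan.isEquivalence_tw hD
      haveI := AmpleVan.isEquivalence_tw (InvX.isInvertible_tensorPow hL j)
      haveI : (AmpleVan.tw D).Additive := Functor.additive_of_preserves_binary_products _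
      haveI : (AmpleVan.tw (CohB1.tensorPow L j)).Additive := Functor.additive_of_preserves_binary_products _
      have hS : (ShortComplex.mk (HilbPoly.mulHom s M) (cokernel.π (HilbPoly.mulHom s M))
          (cokernel.condition _)).ShortExact :=
        .mk' (ShortComplex.exact_of_g_is_cokernel _ (cokernelIsCokernel _)) inferInstance inferInstance
      have h2 := (VanGrowth.h0_le_add k ((hS.map_of_exact (AmpleVan.tw D)).map_of_exact
          (AmpleVan.tw (CohB1.tensorPow L j)))
        (hcoh (AmpleVan.isCoh_tensor hM (AmpleVan.isCoh_invertible hD)) j)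
        (hcoh (AmpleVan.isCoh_tensor hP (AmpleVan.isCoh_invertible hD)) j) (hcoh hCD j)).2
      have e₁ : VanGrowth.h0 k (HilbPoly.pw L (CohB1.tensorMod M D) j) = 0 := by
        have hz := h0_twist_eq_zero k hL hnef hm i (d := d + 1)
          (by rw [← VarBase.dim_range i, hr, heq]) (by omega) hA hD hAD j
        obtain ⟨e⟩ := H23.PicMul.cl_eq_iff.1 (show PicF.cl (HilbPoly.pw L (CohB1.tensorMod M D) j) =
            PicF.cl (CohB1.tensorMod M (CohB1.tensorMod D (CohB1.tensorPow L j))) by
          simp only [H23.PicMul.cl_tensor, mul_assoc])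
        exact (HilbPoly.finrank_HH_iso k e 0).trans hz
      have e₂ : VanGrowth.h0 k (HilbPoly.pw L (CohB1.tensorMod (CohB1.tensorMod M A) D) j) =
          VanGrowth.h0 k (HilbPoly.pw L M j) := by
        obtain ⟨e⟩ := H23.PicMul.cl_eq_iff.1 (show
            PicF.cl (HilbPoly.pw L (CohB1.tensorMod (CohB1.tensorMod M A) D) j) =
              PicF.cl (HilbPoly.pw L M j) by
          simp only [H23.PicMul.cl_tensor]
          rw [mul_assoc (PicF.cl M), hAD, mul_one])
        exact HilbPoly.finrank_HH_iso k e 0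
      calc VanGrowth.h0 k (HilbPoly.pw L M j)
          = VanGrowth.h0 k (HilbPoly.pw L (CohB1.tensorMod (CohB1.tensorMod M A) D) j) := e₂.symm
        _ ≤ VanGrowth.h0 k (HilbPoly.pw L (CohB1.tensorMod M D) j) +
            VanGrowth.h0 k (HilbPoly.pw L (CohB1.tensorMod C D) j) := h2
        _ ≤ _ := by rw [e₁, zero_add]; exact hK j
    · rintro S hS h₁ h₂ h₃ - ⟨C, hC⟩ -
      exact ⟨C, fun j => (VanGrowth.h0_le_add k (hmap hS j) (hcoh h₁ j) (hcoh h₂ j) (hcoh h₃ j)).1.trans (hC j)⟩

include k in
/-- An integral closed subscheme supported at a closed point. -/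
theorem exists_point [Nonempty X] : ∃ (V : Scheme.{u}) (i : V ⟶ X), IsClosedImmersion i ∧ IsIntegral V ∧
    topologicalKrullDim V = ((0 : ℕ) : WithBot ℕ∞) := by
  haveI := CurveCohLib.isNoetherian_of_proper (k := k) (X := X)
  haveI : CompactSpace X := QuasiCompact.compactSpace_of_compactSpace (X ↘ Spec (CommRingCat.of k))
  obtain ⟨x, -, hx⟩ := IsClosed.exists_closed_singleton (S := (Set.univ : Set X)) isClosed_univ Set.univ_nonempty
  refine ⟨_, (VarBase.clIdeal x).subschemeι, inferInstance, SurfInt.isIntegral_clIdeal x, ?_⟩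
  rw [← VarBase.dim_range (VarBase.clIdeal x).subschemeι, VarBase.range_clIdeal, hx.closure_eq]
  refine le_antisymm ?_ (by exact_mod_cast VarBase.dim_nonneg_of_nonempty (Set.singleton_nonempty x))
  rw [Nat.cast_zero]
  exact topologicalKrullDim_zero_of_discreteTopology (X := ({x} : Set X))

/-- The zeroth power is never numerically trivial. -/
theorem not_triv_zero [Nonempty X] (hH : CohB1.IsAmple H) : ¬ Triv k L 0 := fun h => by
  obtain ⟨V, i, hi, hV, hd⟩ := exists_point k (X := X)
  haveI := hi
  haveI := hV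
  letI : V.Over (Spec (CommRingCat.of k)) := ⟨i ≫ (X ↘ Spec (CommRingCat.of k))⟩
  haveI : IsProper (V ↘ Spec (CommRingCat.of k)) := VarBase.isProper_sub i k
  haveI := CurveCohLib.isNoetherian_of_proper (k := k) (X := V)
  haveI : CompactSpace X := QuasiCompact.compactSpace_of_compactSpace (X ↘ Spec (CommRingCat.of k))
  haveI : CompactSpace V := i.isClosedEmbedding.compactSpace
  have h0 : I k (List.replicate 0 H) ((Coh.push i).obj (Coh.structureModule V)) = 0 := h V i hi hV hd
  rw [I_push k i rfl (AllInv.replicate (hH.1) 0) QCoh.isCoh_structureModule'] at h0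
  exact (ample_top_pos k hd (AmpleVan.isAmple_pullback_of_isEmbedding i i.isClosedEmbedding.isEmbedding hH)).ne' h0

/-- The growth form: `L^(m+1)` numerically trivial forbids growth of order `m+1`. -/
theorem not_growth_of_triv [Nonempty X] {n : ℕ} (hn : topologicalKrullDim X ≤ (n : WithBot ℕ∞))
    (hH : CohB1.IsAmple H) (hL : PicF.IsInvertible L) (hnef : IsNef k L) {m : ℕ} (hm : Triv k L m) :
    ¬ ∃ ν a : ℕ, 0 < ν ∧ 0 < a ∧ ∀ μ : ℕ, 1 ≤ μ →
      μ ^ m ≤ a * Module.finrank k (Coh.HH X (CohB1.tensorPow L (ν * μ)) 0) := by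
  haveI := CurveCohLib.isNoetherian_of_proper (k := k) (X := X)
  rcases m with _ | m
  · exact absurd hm (not_triv_zero k hH)
  rintro ⟨ν, a, hν, ha, hg⟩
  obtain ⟨C, hC⟩ := hasBound_of_triv k hH hL hnef hm n (Coh.structureModule X) QCoh.isCoh_structureModule'
    ((topologicalKrullDim_subspace_le ↥X _).trans hn)
  set μ := a * C * (2 * ν) ^ m + 1 with hμ
  have h1 := hg μ (by omega)
  have e : Module.finrank k (Coh.HH X (CohB1.tensorPow L (ν * μ)) 0) ≤ C * (ν * μ + 1) ^ m :=
    (HilbPoly.finrank_HH_iso k (CurveTensor.structureTensorIso (CohB1.tensorPow L (ν * μ))) 0).symm.le.trans (hC _)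
  have h2 : (ν * μ + 1) ^ m ≤ (2 * ν) ^ m * μ ^ m := by
    rw [← mul_pow]
    refine Nat.pow_le_pow_left ?_ m
    have : 1 ≤ ν * μ := Nat.one_le_iff_ne_zero.2 (Nat.mul_ne_zero (by omega) (by omega))
    nlinarith
  have h3 : μ * μ ^ m ≤ (a * C * (2 * ν) ^ m) * μ ^ m := by
    rw [← pow_succ']
    calc μ ^ (m + 1) ≤ a * (C * (ν * μ + 1) ^ m) := h1.trans (Nat.mul_le_mul_left _ e)
      _ ≤ a * (C * ((2 * ν) ^ m * μ ^ m)) := Nat.mul_le_mul_left _ (Nat.mul_le_mul_left _ h2)
      _ = _ := by ring
  have := Nat.le_of_mul_le_mul_right h3 (pow_pos (by omega) m)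
  omega

end Groth.Agent.Nef45
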